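import Mathlib

/-!
A commutative algebra of endomorphisms normalized by a group transitive on nonzero vectors is a
field, and the group acts on it through the Galois group.
-/

set_option autoImplicit false
set_option linter.style.haveILetI false
set_option linter.unusedSectionVars false
set_option linter.unusedSimpArgs false

namespace CfsgLib.TransLinear

variable {q : ℕ} [hq : Fact q.Prime] {V : Type*} [AddCommGroup V] [Module (ZMod q) V] [Finite V]
  {G : Type*} [Group G] (ρ : G →* (V ≃ₗ[ZMod q] V))

/-- `ρ g` as an endomorphism. -/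
def endHom : G →* Module.End (ZMod q) V where
  toFun g := (ρ g).toLinearMap
  map_one' := by ext v; simp
  map_mul' g h := by ext v; simp

@[simp] theorem endHom_apply (g : G) (v : V) : endHom ρ g v = ρ g v := rfl

theorem inv_apply_apply (g : G) (v : V) : ρ g⁻¹ (ρ g v) = v := by
  rw [← LinearEquiv.mul_apply, ← map_mul, inv_mul_cancel, map_one]; rfl

theorem apply_inv_apply (g : G) (v : V) : ρ g (ρ g⁻¹ v) = v := by
  rw [← LinearEquiv.mul_apply, ← map_mul, mul_inv_cancel, map_one]; rfl

/-- The algebra of endomorphisms generated by a subgroup. -/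
abbrev algOf (C : Subgroup G) : Subalgebra (ZMod q) (Module.End (ZMod q) V) :=
  Algebra.adjoin (ZMod q) ((endHom ρ) '' (C : Set G))

theorem mem_algOf {C : Subgroup G} {c : G} (hc : c ∈ C) : endHom ρ c ∈ algOf ρ C :=
  Algebra.subset_adjoin ⟨c, hc, rfl⟩

theorem algOf_comm {C : Subgroup G} (hC : ∀ x ∈ C, ∀ y ∈ C, x * y = y * x) {a b : Module.End (ZMod q) V}
    (ha : a ∈ algOf ρ C) (hb : b ∈ algOf ρ C) : a * b = b * a := by
  induction ha using Algebra.adjoin_induction with
  | mem x hx =>
    induction hb using Algebra.adjoin_induction with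
    | mem y hy =>
      obtain ⟨x, hx, rfl⟩ := hx
      obtain ⟨y, hy, rfl⟩ := hy
      rw [← map_mul, hC x hx y hy, map_mul]
    | algebraMap r => exact (Algebra.commutes r x).symm
    | add u v _ _ hu hv => rw [mul_add, add_mul, hu, hv]
    | mul u v _ _ hu hv => rw [← mul_assoc, hu, mul_assoc, hv, ← mul_assoc]
  | algebraMap r => exact Algebra.commutes r b
  | add u v _ _ hu hv => rw [mul_add, add_mul, hu, hv]
  | mul u v _ _ hu hv => rw [mul_assoc, hv, ← mul_assoc, hu, mul_assoc]

theorem conj_mem_algOf {C : Subgroup G} [C.Normal] (g : G) {a : Module.End (ZMod q) V}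
    (ha : a ∈ algOf ρ C) : endHom ρ g * a * endHom ρ g⁻¹ ∈ algOf ρ C := by
  have h1 : endHom ρ g⁻¹ * endHom ρ g = 1 := by rw [← map_mul, inv_mul_cancel, map_one]
  induction ha using Algebra.adjoin_induction with
  | mem x hx =>
    obtain ⟨x, hx, rfl⟩ := hx
    rw [← map_mul, ← map_mul]
    exact mem_algOf ρ ((inferInstance : C.Normal).conj_mem x hx g)
  | algebraMap r =>
    rw [← Algebra.commutes, mul_assoc, ← map_mul, mul_inv_cancel, map_one, mul_one]
    exact Subalgebra.algebraMap_mem _ r
  | add u v _ _ hu hv => rw [mul_add, add_mul]; exact add_mem hu hv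
  | mul u v _ _ hu hv =>
    have : endHom ρ g * (u * v) * endHom ρ g⁻¹ =
        (endHom ρ g * u * endHom ρ g⁻¹) * (endHom ρ g * v * endHom ρ g⁻¹) := by
      simp only [mul_assoc]
      rw [← mul_assoc (endHom ρ g⁻¹) (endHom ρ g), h1, one_mul]
    rw [this]; exact mul_mem hu hv

/-- Transitivity makes every nonzero element of the algebra injective. -/
theorem eq_zero_of_apply_eq_zero {C : Subgroup G} [C.Normal]
    (hC : ∀ x ∈ C, ∀ y ∈ C, x * y = y * x)
    (htrans : ∀ v w : V, v ≠ 0 → w ≠ 0 → ∃ g : G, ρ g v = w) {a : Module.End (ZMod q) V}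
    (ha : a ∈ algOf ρ C) {v : V} (hv : v ≠ 0) (hav : a v = 0) : a = 0 := by
  classical
  let A := algOf ρ C
  haveI : Finite (Module.End (ZMod q) V) := Finite.of_injective _ DFunLike.coe_injective
  let ann : V → Set A := fun u => {b | b.1 u = 0}
  -- translates have annihilators of the same size
  have hcard : ∀ u w : V, u ≠ 0 → w ≠ 0 → (ann u).ncard ≤ (ann w).ncard := by
    intro u w hu hw
    obtain ⟨g, rfl⟩ := htrans u w hu hw
    refine Set.ncard_le_ncard_of_injOn
      (fun b : A => (⟨_, conj_mem_algOf ρ g b.2⟩ : A)) (fun b hb => ?_) (fun b _ b' _ h => ?_)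
      (Set.toFinite _)
    · show ρ g (b.1 (ρ g⁻¹ (ρ g u))) = 0
      rw [inv_apply_apply, show b.1 u = 0 from hb, map_zero]
    · refine Subtype.ext (LinearMap.ext fun x => ?_)
      have h' := LinearMap.congr_fun (congrArg Subtype.val h) (ρ g x)
      simp only [Module.End.mul_apply, endHom_apply, inv_apply_apply] at h'
      exact (ρ g).injective h'
  have heq : ∀ u w : V, u ≠ 0 → w ≠ 0 → ann u ⊆ ann w → ann u = ann w := fun u w hu hw h =>
    Set.eq_of_subset_of_ncard_le h (hcard w u hw hu) (Set.toFinite _)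
  have hcomm : ∀ (b c : A) (u : V), b.1 (c.1 u) = c.1 (b.1 u) := fun b c u =>
    LinearMap.congr_fun (algOf_comm ρ hC b.2 c.2) u
  -- annihilators are prime
  have hprime : ∀ (b c : A) (u : V), u ≠ 0 → b.1 (c.1 u) = 0 → c.1 u ≠ 0 → b.1 u = 0 := by
    intro b c u hu h hne
    have : ann u = ann (c.1 u) := heq u _ hu hne fun d hd => by
      show d.1 (c.1 u) = 0
      rw [hcomm, show d.1 u = 0 from hd, map_zero]
    exact (this ▸ h : b ∈ ann u)
  have hall : ∀ u w : V, u ≠ 0 → w ≠ 0 → ann u = ann w := by
    intro u w hu hw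
    by_cases huw : u + w = 0
    · rw [eq_neg_of_add_eq_zero_right huw]
      ext b
      simp [ann]
    by_contra hne
    obtain ⟨b, hbu, hbw⟩ : ∃ b, b ∈ ann u ∧ b ∉ ann w := by
      by_contra h
      push Not at h
      exact hne (heq u w hu hw h)
    obtain ⟨c, hcw, hcu⟩ : ∃ c, c ∈ ann w ∧ c ∉ ann u := by
      by_contra h
      push Not at h
      exact hne (heq w u hw hu h).symm
    -- `b * c` kills `u + w`, so one of `b`, `c` does
    have h0 : b.1 (c.1 (u + w)) = 0 := by
      rw [map_add, show c.1 w = 0 from hcw, add_zero, hcomm, show b.1 u = 0 from hbu, map_zero]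
    by_cases hc0 : c.1 (u + w) = 0
    · rw [map_add, show c.1 w = 0 from hcw, add_zero] at hc0
      exact hcu hc0
    · have := hprime b c (u + w) huw h0 hc0
      rw [map_add, show b.1 u = 0 from hbu, zero_add] at this
      exact hbw this
  refine LinearMap.ext fun u => ?_
  by_cases hu : u = 0
  · rw [hu, map_zero]; rfl
  · exact (hall v u hv hu ▸ hav : (⟨a, ha⟩ : A) ∈ ann u)

/-- The data of the field attached to a normal abelian subgroup of a transitive linear group. -/
theorem exists_field_data [Nontrivial V] [Finite G] (hρ : Function.Injective ρ)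
    (htrans : ∀ v w : V, v ≠ 0 → w ≠ 0 → ∃ g : G, ρ g v = w) (C : Subgroup G) [C.Normal]
    (hC : ∀ x ∈ C, ∀ y ∈ C, x * y = y * x) :
    ∃ d t : ℕ, 0 < d ∧ 0 < t ∧ Nat.card V = q ^ (d * t) ∧ Nat.card (algOf ρ C) = q ^ d ∧
      Nat.card C ∣ q ^ d - 1 ∧
      (∃ f : G →* Multiplicative (ZMod d), f.ker = Subgroup.centralizer (C : Set G)) ∧
      (t = 1 → (∃ (F : Type) (_ : Field F) (_ : Fintype F) (e : V ≃+ F),
          ∀ g : G, ∃ (a : F) (σ : F ≃+* F), ∀ v : V, e (ρ g v) = a * σ (e v)) ∧
        (∀ x ∈ Subgroup.centralizer (C : Set G), ∀ y ∈ Subgroup.centralizer (C : Set G),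
          x * y = y * x) ∧
        ∀ W : Submodule (ZMod q) V, (∀ c ∈ C, ∀ w ∈ W, ρ c w ∈ W) → W = ⊥ ∨ W = ⊤) := by
  classical
  haveI : Finite (Module.End (ZMod q) V) := Finite.of_injective _ DFunLike.coe_injective
  let A := algOf ρ C
  letI iA : CommRing A := { (inferInstance : Ring A) with
    mul_comm := fun a b => Subtype.ext (algOf_comm ρ hC a.2 b.2) }
  haveI : Nontrivial A := ⟨⟨0, 1, fun h => by
    obtain ⟨v, hv⟩ := exists_ne (0 : V)
    exact hv (LinearMap.congr_fun (congrArg Subtype.val h) v).symm⟩⟩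
  haveI : NoZeroDivisors A := ⟨fun {a b} h => by
    by_contra hne
    push Not at hne
    obtain ⟨v, hv⟩ : ∃ v, b.1 v ≠ 0 := by
      by_contra h'
      push Not at h'
      exact hne.2 (Subtype.ext (LinearMap.ext fun v => by rw [h' v]; rfl))
    have hv0 : b.1 v ≠ 0 := hv
    exact hne.1 (Subtype.ext (eq_zero_of_apply_eq_zero ρ hC htrans a.2 hv0
      (LinearMap.congr_fun (congrArg Subtype.val h) v)))⟩
  haveI : IsDomain A := NoZeroDivisors.to_isDomain A
  letI : Field A := (Finite.isDomain_to_isField A).toField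
  haveI : Fintype A := Fintype.ofFinite A
  set d := Module.finrank (ZMod q) A with hd
  set t := Module.finrank A V with ht
  haveI : Module.Finite A V := Module.Finite.of_finite
  have hAcard : Nat.card A = q ^ d := by
    rw [Module.natCard_eq_pow_finrank (K := ZMod q) (V := A), Nat.card_zmod]
  have hVcard : Nat.card V = q ^ (d * t) := by
    rw [Module.natCard_eq_pow_finrank (K := A) (V := V), hAcard, ← pow_mul]
  have hd0 : 0 < d := Module.finrank_pos
  have ht0 : 0 < t := Module.finrank_pos
  -- the subgroup `C` inside the units of the field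
  have hCdvd : Nat.card C ∣ q ^ d - 1 := by
    let j : C →* A :=
      { toFun := fun c => ⟨endHom ρ c, mem_algOf ρ c.2⟩
        map_one' := Subtype.ext (map_one (endHom ρ))
        map_mul' := fun x y => Subtype.ext (map_mul (endHom ρ) (x : G) y) }
    have hj : Function.Injective j := fun x y h => Subtype.ext (hρ (LinearEquiv.ext fun v =>
      LinearMap.congr_fun (congrArg Subtype.val h) v))
    have hinj : Function.Injective j.toHomUnits := fun x y h => hj (congrArg Units.val h)
    rw [← hAcard, ← Nat.card_units]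
    exact Subgroup.card_dvd_of_injective _ hinj
  -- conjugation gives field automorphisms
  let σ : G → (A ≃ₐ[ZMod q] A) := fun g =>
    { toFun := fun a => ⟨_, conj_mem_algOf ρ g a.2⟩
      invFun := fun a => ⟨_, conj_mem_algOf ρ g⁻¹ a.2⟩
      left_inv := fun a => Subtype.ext (LinearMap.ext fun v => by
        simp [Module.End.mul_apply, inv_apply_apply])
      right_inv := fun a => Subtype.ext (LinearMap.ext fun v => by
        simp [Module.End.mul_apply, apply_inv_apply])
      map_mul' := fun a b => Subtype.ext (LinearMap.ext fun v => by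
        simp [Module.End.mul_apply, inv_apply_apply])
      map_add' := fun a b => Subtype.ext (LinearMap.ext fun v => by
        simp [Module.End.mul_apply, LinearMap.add_apply])
      commutes' := fun r => Subtype.ext (LinearMap.ext fun v => by
        simp [Module.End.mul_apply, Module.algebraMap_end_apply, apply_inv_apply]) }
  have hσ : ∀ (g : G) (a : A) (v : V), (σ g a).1 (ρ g v) = ρ g (a.1 v) := fun g a v => by
    simp [σ, Module.End.mul_apply, inv_apply_apply]
  let σh : G →* (A ≃ₐ[ZMod q] A) := MonoidHom.mk' σ fun g h => AlgEquiv.ext fun a =>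
    Subtype.ext (LinearMap.ext fun v => by simp [σ, Module.End.mul_apply, mul_inv_rev, map_mul])
  have hker : σh.ker = Subgroup.centralizer (C : Set G) := by
    ext g
    rw [MonoidHom.mem_ker, Subgroup.mem_centralizer_iff]
    constructor
    · intro h c hc
      refine hρ (LinearEquiv.ext fun v => ?_)
      have h1 := hσ g ⟨_, mem_algOf ρ hc⟩ v
      rw [show σ g = 1 from h, AlgEquiv.one_apply] at h1
      simpa [map_mul] using h1
    · intro h
      refine AlgEquiv.ext fun a => Subtype.ext ?_
      have hh : ∀ a ∈ algOf ρ C, endHom ρ g * a = a * endHom ρ g := by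
        intro a ha
        induction ha using Algebra.adjoin_induction with
        | mem x hx =>
          obtain ⟨x, hx, rfl⟩ := hx
          rw [← map_mul, ← h x hx, map_mul]
        | algebraMap r => exact (Algebra.commutes r _).symm
        | add u v _ _ hu hv => rw [mul_add, add_mul, hu, hv]
        | mul u v _ _ hu hv => rw [← mul_assoc, hu, mul_assoc, hv, ← mul_assoc]
      show endHom ρ g * a.1 * endHom ρ g⁻¹ = a.1
      rw [hh _ a.2, mul_assoc, ← map_mul, mul_inv_cancel, map_one, mul_one]
  refine ⟨d, t, hd0, ht0, hVcard, hAcard, hCdvd, ?_, fun ht1 => ⟨?_, ?_, ?_⟩⟩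
  · have hcard : Nat.card (A ≃ₐ[ZMod q] A) = d := IsGalois.card_aut_eq_finrank (ZMod q) A
    haveI : IsCyclic (A ≃ₐ[ZMod q] A) := inferInstance
    let e : (A ≃ₐ[ZMod q] A) ≃* Multiplicative (ZMod d) :=
      mulEquivOfCyclicCardEq (by rw [hcard, Nat.card_congr Multiplicative.toAdd, Nat.card_zmod])
    refine ⟨e.toMonoidHom.comp σh, ?_⟩
    rw [← hker]
    ext g
    simp [MonoidHom.mem_ker]
  · -- one-dimensional: semilinear
    obtain ⟨v₀, hv₀⟩ := exists_ne (0 : V)
    have hbij : Function.Bijective fun a : A => a.1 v₀ := by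
      rw [Nat.bijective_iff_injective_and_card]
      refine ⟨fun a b h => ?_, by rw [hAcard, hVcard, ht1, mul_one]⟩
      have : (a - b : A).1 v₀ = 0 := by
        show a.1 v₀ - b.1 v₀ = 0
        rw [show a.1 v₀ = b.1 v₀ from h, sub_self]
      exact sub_eq_zero.mp (Subtype.ext (eq_zero_of_apply_eq_zero ρ hC htrans (a - b).2 hv₀ this))
    let eA : A ≃+ V := { Equiv.ofBijective _ hbij with map_add' := fun _ _ => rfl }
    have hfin : Fintype (GaloisField q d) := Fintype.ofFinite _
    let r : A ≃+* GaloisField q d := FiniteField.ringEquivOfCardEq (K := A) (K' := GaloisField q d) (by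
      rw [← Nat.card_eq_fintype_card, ← Nat.card_eq_fintype_card, hAcard,
        GaloisField.card q d hd0.ne'])
    refine ⟨GaloisField q d, inferInstance, hfin, eA.symm.trans r.toAddEquiv, fun g => ?_⟩
    refine ⟨r (eA.symm (ρ g v₀)), (r.symm.trans (σ g).toRingEquiv).trans r, fun v => ?_⟩
    obtain ⟨a, rfl⟩ := eA.surjective v
    simp only [AddEquiv.trans_apply, AddEquiv.symm_apply_apply, RingEquiv.toAddEquiv_eq_coe,
      RingEquiv.coe_toAddEquiv, RingEquiv.trans_apply, RingEquiv.symm_apply_apply]
    rw [← map_mul]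
    congr 1
    rw [AddEquiv.symm_apply_eq]
    show ρ g (a.1 v₀) = (eA.symm (ρ g v₀) * σ g a).1 v₀
    rw [mul_comm, ← hσ]
    show _ = (σ g a).1 (eA (eA.symm (ρ g v₀)))
    rw [AddEquiv.apply_symm_apply]
  · intro x hx y hy
    obtain ⟨v₀, hv₀⟩ := exists_ne (0 : V)
    have hsurj : ∀ w : V, ∃ a : A, a.1 v₀ = w := by
      have hbij : Function.Bijective fun a : A => a.1 v₀ := by
        rw [Nat.bijective_iff_injective_and_card]
        refine ⟨fun a b h => ?_, by rw [hAcard, hVcard, ht1, mul_one]⟩
        have : (a - b : A).1 v₀ = 0 := by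
          show a.1 v₀ - b.1 v₀ = 0
          rw [show a.1 v₀ = b.1 v₀ from h, sub_self]
        exact sub_eq_zero.mp (Subtype.ext (eq_zero_of_apply_eq_zero ρ hC htrans (a - b).2 hv₀ this))
      exact hbij.2
    have hone : ∀ g ∈ Subgroup.centralizer (C : Set G), ∀ a : A, ρ g (a.1 v₀) = a.1 (ρ g v₀) := by
      intro g hg a
      have h1 := hσ g a v₀
      rw [show σ g = 1 from (hker ▸ hg : g ∈ σh.ker), AlgEquiv.one_apply] at h1
      exact h1.symm
    refine hρ (LinearEquiv.ext fun v => ?_)
    obtain ⟨a, rfl⟩ := hsurj v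
    obtain ⟨b, hb⟩ := hsurj (ρ x v₀)
    obtain ⟨c, hc⟩ := hsurj (ρ y v₀)
    have hm : ∀ (g : G), g ∈ Subgroup.centralizer (C : Set G) → ∀ (a d : A), d.1 v₀ = ρ g v₀ →
        ρ g (a.1 v₀) = (a * d).1 v₀ := fun g hg a d hd => by
      rw [hone g hg a, ← hd]; rfl
    simp only [map_mul, LinearEquiv.mul_apply]
    rw [hm y hy a c hc, hm x hx _ b hb, hm x hx a b hb, hm y hy _ c hc, mul_right_comm]
  · intro W hW
    by_cases hW0 : W = ⊥
    · exact Or.inl hW0
    right
    obtain ⟨w, hw, hw0⟩ := (Submodule.ne_bot_iff W).mp hW0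
    have hbij : Function.Bijective fun a : A => a.1 w := by
      rw [Nat.bijective_iff_injective_and_card]
      refine ⟨fun a b h => ?_, by rw [hAcard, hVcard, ht1, mul_one]⟩
      have : (a - b : A).1 w = 0 := by
        show a.1 w - b.1 w = 0
        rw [show a.1 w = b.1 w from h, sub_self]
      exact sub_eq_zero.mp (Subtype.ext (eq_zero_of_apply_eq_zero ρ hC htrans (a - b).2 hw0 this))
    have hinv : ∀ a ∈ algOf ρ C, ∀ u ∈ W, a u ∈ W := by
      intro a ha
      induction ha using Algebra.adjoin_induction with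
      | mem x hx =>
        obtain ⟨c, hc, rfl⟩ := hx
        exact hW c hc
      | algebraMap r =>
        intro u hu
        rw [Module.algebraMap_end_apply]
        exact W.smul_mem r hu
      | add x y _ _ hx hy => exact fun u hu => W.add_mem (hx u hu) (hy u hu)
      | mul x y _ _ hx hy => exact fun u hu => hx _ (hy u hu)
    refine eq_top_iff.mpr fun v _ => ?_
    obtain ⟨a, rfl⟩ := hbij.2 v
    exact hinv _ a.2 w hw

end CfsgLib.TransLinear
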