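import Mathlib
import Cfsg.Agent.Lib.TransLinear.Field
import Cfsg.Agent.Lib.ZStar.Recognize

/-!
Normal subgroups of a solvable group acting regularly on nonzero vectors: a maximal cyclic
normal subgroup is either self-centralizing or accompanied by a normal quaternion group.
-/

set_option autoImplicit false
set_option linter.style.haveILetI false
set_option linter.unusedSectionVars false
set_option linter.unusedSimpArgs false

open scoped commutatorElement

namespace CfsgLib.TransLinear

variable {q : ℕ} [hq : Fact q.Prime] {V : Type*} [AddCommGroup V] [Module (ZMod q) V] [Finite V]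
  [Nontrivial V] {G : Type*} [Group G] [Finite G] {ρ : G →* (V ≃ₗ[ZMod q] V)}

theorem pow_apply_of_fixed {g : G} {v : V} (h : ρ g v = v) : ∀ i : ℕ, ρ (g ^ i) v = v
  | 0 => by rw [pow_zero, map_one]; rfl
  | i + 1 => by rw [pow_succ, map_mul, LinearEquiv.mul_apply, h, pow_apply_of_fixed h i]

/-- An element of prime order `r` acting fixed point freely: `r ≠ q`. -/
theorem prime_ne_of_orderOf (hreg : ∀ v : V, v ≠ 0 → ∀ g : G, ρ g v = v → g = 1) {g : G} {r : ℕ}
    (hr : r.Prime) (hg : orderOf g = r) : r ≠ q := by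
  rintro rfl
  haveI := Fact.mk hr
  haveI := Fintype.ofFinite V
  have hg1 : g ≠ 1 := fun h => hr.ne_one (by rw [← hg, h, orderOf_one])
  let Z := Subgroup.zpowers g
  letI : MulAction Z V :=
    { smul := fun z v => ρ (z : G) v
      one_smul := fun v => by show ρ ((1 : Z) : G) v = v; rw [OneMemClass.coe_one, map_one]; rfl
      mul_smul := fun a b v => by
        show ρ ((a * b : Z) : G) v = ρ (a : G) (ρ (b : G) v)
        rw [Subgroup.coe_mul, map_mul]; rfl }
  have hp : IsPGroup r Z := IsPGroup.of_card (n := 1) (by rw [pow_one, Nat.card_zpowers, hg])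
  have hdvd : r ∣ Nat.card V := by
    rw [Module.natCard_eq_pow_finrank (K := ZMod r) (V := V), Nat.card_zmod]
    exact dvd_pow_self r (Module.finrank_pos).ne'
  obtain ⟨v, hv, hv0⟩ := hp.exists_fixed_point_of_prime_dvd_card_of_fixed_point V hdvd
    (a := (0 : V)) (fun z => map_zero (ρ (z : G)))
  exact hg1 (hreg v hv0.symm g (hv ⟨g, Subgroup.mem_zpowers g⟩))

theorem sum_pow_eq_zero (hreg : ∀ v : V, v ≠ 0 → ∀ g : G, ρ g v = v → g = 1) {g : G} {r : ℕ}
    (hr : r ≠ 0) (hg1 : g ≠ 1) (hg : g ^ r = 1) (v : V) :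
    ∑ i ∈ Finset.range r, ρ (g ^ i) v = 0 := by
  by_contra h
  refine hg1 (hreg _ h g ?_)
  rw [map_sum]
  obtain ⟨s, rfl⟩ := Nat.exists_eq_succ_of_ne_zero hr
  rw [Finset.sum_range_succ, Finset.sum_range_succ', pow_zero, ← LinearEquiv.mul_apply, ← map_mul,
    ← pow_succ', hg]
  congr 1
  refine Finset.sum_congr rfl fun i _ => ?_
  rw [← LinearEquiv.mul_apply, ← map_mul, ← pow_succ']

/-- Commuting elements of the same prime order generate the same cyclic group. -/
theorem mem_zpowers_of_commute (hreg : ∀ v : V, v ≠ 0 → ∀ g : G, ρ g v = v → g = 1) {x y : G}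
    {r : ℕ} (hr : r.Prime) (hx : orderOf x = r) (hy : orderOf y = r) (hxy : Commute x y) :
    y ∈ Subgroup.zpowers x := by
  by_contra hny
  have hne : ∀ k : ℕ, x * y ^ k ≠ 1 := by
    intro k hk
    haveI := Fact.mk hr
    by_cases hdk : r ∣ k
    · rw [orderOf_dvd_iff_pow_eq_one.mp (hy ▸ hdk), mul_one] at hk
      rw [hk, orderOf_one] at hx
      exact hr.ne_one hx.symm
    · apply hny
      have h1 : y ^ k ∈ Subgroup.zpowers x :=
        ⟨-1, by simp only [zpow_neg, zpow_one]; exact inv_eq_of_mul_eq_one_right hk⟩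
      obtain ⟨m, hm⟩ := exists_pow_eq_self_of_coprime (x := y) (n := k)
        (by rw [hy]; exact ((hr.coprime_iff_not_dvd).mpr hdk).symm)
      rw [← hm]
      exact pow_mem h1 m
  obtain ⟨v, hv⟩ := exists_ne (0 : V)
  have hy1 : y ≠ 1 := fun h => hr.ne_one (by rw [← hy, h, orderOf_one])
  have hpowx : x ^ r = 1 := hx ▸ pow_orderOf_eq_one x
  have hpowy : y ^ r = 1 := hy ▸ pow_orderOf_eq_one y
  have hpow : ∀ k, (x * y ^ k) ^ r = 1 := fun k => by
    rw [(hxy.pow_right k).mul_pow, hpowx, one_mul, ← pow_mul, mul_comm k, pow_mul, hpowy, one_pow]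
  -- the sum over all lines through the origin
  have key : ∀ i ∈ Finset.range r, i ≠ 0 →
      ∑ k ∈ Finset.range r, ρ ((x * y ^ k) ^ i) v = 0 := by
    intro i hi hi0
    have hyi : y ^ i ≠ 1 := by
      rw [ne_eq, ← orderOf_dvd_iff_pow_eq_one, hy]
      exact fun h => hi0 (Nat.eq_zero_of_dvd_of_lt h (Finset.mem_range.mp hi))
    have hyir : (y ^ i) ^ r = 1 := by rw [← pow_mul, mul_comm, pow_mul, hpowy, one_pow]
    have : ∀ k, ρ ((x * y ^ k) ^ i) v = ρ (x ^ i) (ρ ((y ^ i) ^ k) v) := fun k => by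
      rw [← LinearEquiv.mul_apply, ← map_mul, (hxy.pow_right k).mul_pow, ← pow_mul, ← pow_mul,
        mul_comm k]
    simp only [this]
    rw [← map_sum, sum_pow_eq_zero hreg hr.ne_zero hyi hyir, map_zero]
  have h0 : ∑ k ∈ Finset.range r, ∑ i ∈ Finset.range r, ρ ((x * y ^ k) ^ i) v = 0 :=
    Finset.sum_eq_zero fun k _ => sum_pow_eq_zero hreg hr.ne_zero (hne k) (hpow k) v
  rw [Finset.sum_comm, Finset.sum_eq_single_of_mem 0 (Finset.mem_range.mpr hr.pos) key] at h0
  simp only [pow_zero, map_one] at h0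
  have h0' : (r : ZMod q) • v = 0 := by
    rw [Nat.cast_smul_eq_nsmul]
    simpa using h0
  rcases smul_eq_zero.mp h0' with h | h
  · rw [ZMod.natCast_eq_zero_iff] at h
    exact prime_ne_of_orderOf hreg hr hx (((Nat.prime_dvd_prime_iff_eq hq.out hr).mp h)).symm
  · exact hv h

/-- An involution acts as `-1`. -/
theorem apply_eq_neg (hreg : ∀ v : V, v ≠ 0 → ∀ g : G, ρ g v = v → g = 1) {t : G}
    (ht : orderOf t = 2) (v : V) : ρ t v = -v := by
  have ht1 : t ≠ 1 := fun h => by rw [h, orderOf_one] at ht; omega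
  have ht2 : t * t = 1 := by rw [← pow_two, ← ht, pow_orderOf_eq_one]
  by_contra h
  refine ht1 (hreg (ρ t v + v) (fun h0 => h (eq_neg_of_add_eq_zero_left h0)) t ?_)
  rw [map_add, ← LinearEquiv.mul_apply, ← map_mul, ht2, map_one, LinearEquiv.coe_one, id,
    add_comm]

theorem involution_unique (hρ : Function.Injective ρ)
    (hreg : ∀ v : V, v ≠ 0 → ∀ g : G, ρ g v = v → g = 1) {s t : G} (hs : orderOf s = 2)
    (ht : orderOf t = 2) : s = t :=
  hρ (LinearEquiv.ext fun v => (apply_eq_neg hreg hs v).trans (apply_eq_neg hreg ht v).symm)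

theorem involution_central (hρ : Function.Injective ρ)
    (hreg : ∀ v : V, v ≠ 0 → ∀ g : G, ρ g v = v → g = 1) {t : G} (ht : orderOf t = 2) :
    t ∈ Subgroup.center G :=
  Subgroup.mem_center_iff.mpr fun g => hρ (LinearEquiv.ext fun v => by
    simp [map_mul, apply_eq_neg hreg ht])

/-- Sylow subgroups of odd order are cyclic. -/
theorem isCyclic_of_odd (hreg : ∀ v : V, v ≠ 0 → ∀ g : G, ρ g v = v → g = 1) {r : ℕ}
    [Fact r.Prime] (hr2 : r ≠ 2) {P : Subgroup G} (hP : IsPGroup r P) : IsCyclic P := by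
  refine CfsgLib.ZStar.cyclic_of_unique_subgroup hr2 hP fun H K hH hK => ?_
  have hr : r.Prime := Fact.out
  -- a central element of order `r`
  haveI : Nontrivial P := by
    haveI : Nontrivial H := Finite.one_lt_card_iff_nontrivial.mp (hH ▸ hr.one_lt)
    exact H.subtype_injective.nontrivial
  haveI := hP.center_nontrivial
  obtain ⟨k, hk⟩ := IsPGroup.iff_card.mp (hP.to_subgroup (Subgroup.center P))
  have hk0 : k ≠ 0 := by
    rintro rfl
    rw [pow_zero] at hk
    exact (Finite.one_lt_card (α := Subgroup.center P)).ne' hk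
  obtain ⟨z, hz⟩ := exists_prime_orderOf_dvd_card' (G := Subgroup.center P) r
    (hk ▸ dvd_pow_self r hk0)
  have hzo : orderOf ((z : P) : G) = r := by rw [Subgroup.orderOf_coe, Subgroup.orderOf_coe, hz]
  have key : ∀ L : Subgroup P, Nat.card L = r → L = Subgroup.zpowers (z : P) := by
    intro L hL
    obtain ⟨a, ha⟩ := exists_prime_orderOf_dvd_card' (G := L) r hL.symm.dvd
    have hao : orderOf ((a : P) : G) = r := by rw [Subgroup.orderOf_coe, Subgroup.orderOf_coe, ha]
    have hc : Commute ((a : P) : G) ((z : P) : G) :=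
      congrArg Subtype.val (Subgroup.mem_center_iff.mp z.2 (a : P))
    obtain ⟨j, hj⟩ := mem_zpowers_of_commute hreg hr hao hzo hc
    symm
    refine Subgroup.eq_of_le_of_card_ge (Subgroup.zpowers_le.mpr ?_) ?_
    · rw [show (z : P) = (a : P) ^ j from Subtype.ext (by simpa using hj.symm)]
      exact zpow_mem a.2 j
    · rw [hL, Nat.card_zpowers, Subgroup.orderOf_coe, hz]
  rw [key H hH, key K hK]

/-- A 2-subgroup whose commutators are central is cyclic or quaternion of order 8. -/
theorem cyclic_or_quaternion_eight (hρ : Function.Injective ρ)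
    (hreg : ∀ v : V, v ≠ 0 → ∀ g : G, ρ g v = v → g = 1) {P : Subgroup G} (hP : IsPGroup 2 P)
    (hcl : ∀ x ∈ P, ∀ y ∈ P, ∀ z ∈ P, (x * y * x⁻¹ * y⁻¹) * z = z * (x * y * x⁻¹ * y⁻¹)) :
    IsCyclic P ∨ Nonempty (QuaternionGroup 2 ≃* P) := by
  rcases CfsgLib.ZStar.cyclic_or_quaternion hP (fun x y hx hy => Subtype.ext
    (involution_unique hρ hreg (by rw [Subgroup.orderOf_coe, hx]) (by rw [Subgroup.orderOf_coe, hy])))
    with hc | ⟨m, ⟨f⟩⟩
  · exact Or.inl hc
  match m, f with
  | 0, f =>
    haveI : IsCyclic (QuaternionGroup (2 ^ 0)) := QuaternionGroup.quaternionGroup_one_isCyclic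
    exact Or.inl (isCyclic_of_surjective f.symm f.symm.surjective)
  | 1, f => exact Or.inr ⟨f.symm⟩
  | m + 2, f =>
    exfalso
    haveI : NeZero (2 ^ (m + 2)) := ⟨by positivity⟩
    let a : QuaternionGroup (2 ^ (m + 2)) := QuaternionGroup.a 1
    let b : QuaternionGroup (2 ^ (m + 2)) := QuaternionGroup.xa 0
    have h := congrArg (fun u : G => u) (hcl (f.symm a).1 (f.symm a).2 (f.symm b).1 (f.symm b).2
      (f.symm b).1 (f.symm b).2)
    have h' : (a * b * a⁻¹ * b⁻¹) * b = b * (a * b * a⁻¹ * b⁻¹) := by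
      apply f.symm.injective
      refine Subtype.ext ?_
      simpa [map_mul, map_inv] using h
    have hai : a⁻¹ = QuaternionGroup.a (-1) := rfl
    have hbi : b⁻¹ = QuaternionGroup.xa ((2 ^ (m + 2) : ℕ) + 0) := rfl
    rw [hai, hbi] at h'
    simp only [a, b, QuaternionGroup.a_mul_a, QuaternionGroup.a_mul_xa, QuaternionGroup.xa_mul_a,
      QuaternionGroup.xa_mul_xa] at h'
    have h4 : ((4 : ℕ) : ZMod (2 * 2 ^ (m + 2))) = 0 := by
      have h'' := QuaternionGroup.xa.inj h'
      have hN : (2 : ZMod (2 * 2 ^ (m + 2))) * ((2 ^ (m + 2) : ℕ) : ZMod (2 * 2 ^ (m + 2))) = 0 := by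
        rw [← ZMod.natCast_self (2 * 2 ^ (m + 2))]; push_cast; ring
      push_cast at h'' hN ⊢
      linear_combination (-1) * h'' - 2 * hN
    rw [ZMod.natCast_eq_zero_iff] at h4
    have := Nat.le_of_dvd (by norm_num) h4
    have : 4 ≤ 2 ^ (m + 2) := by
      calc 4 = 2 ^ 2 := by norm_num
        _ ≤ _ := Nat.pow_le_pow_right two_pos (by omega)
    omega

/-- A minimal normal subgroup above a maximal cyclic normal subgroup `C` inside its centralizer
provides a normal quaternion group. -/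
theorem exists_quaternion (hρ : Function.Injective ρ) [Group.IsSolvable G]
    (hreg : ∀ v : V, v ≠ 0 → ∀ g : G, ρ g v = v → g = 1) {C : Subgroup G} [C.Normal] [IsCyclic C]
    (hmax : ∀ E : Subgroup G, E.Normal → C ≤ E → IsCyclic E → E = C) {M : Subgroup G} [M.Normal]
    (hM : M ≤ Subgroup.centralizer (C : Set G)) (hMC : ¬ M ≤ C) :
    ∃ Q : Subgroup G, Q.Normal ∧ Q ≤ M ⊔ C ∧ Nonempty (QuaternionGroup 2 ≃* Q) := by
  classical
  have hCc : C ≤ Subgroup.centralizer (C : Set G) := fun x hx y hy =>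
    congrArg Subtype.val (mul_comm' (⟨y, hy⟩ : C) ⟨x, hx⟩)
  obtain ⟨E, hEle, ⟨hEn, hCE, hEne⟩, hEmin⟩ :
      ∃ E ≤ M ⊔ C, (E.Normal ∧ C ≤ E ∧ E ≠ C) ∧
        ∀ K : Subgroup G, K.Normal → C ≤ K → K ≠ C → K ≤ E → K = E := by
    obtain ⟨E, hle, hE⟩ := Finite.exists_le_minimal (p := fun K : Subgroup G => K.Normal ∧ C ≤ K ∧ K ≠ C)
      (a := M ⊔ C) ⟨inferInstance, le_sup_right, fun h => hMC (le_sup_left.trans h.le)⟩
    exact ⟨E, hle, hE.prop, fun K hK hCK hKne hKE => le_antisymm hKE (hE.2 ⟨hK, hCK, hKne⟩ hKE)⟩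
  haveI := hEn
  have hEC : E ≤ Subgroup.centralizer (C : Set G) := hEle.trans (sup_le hM hCc)
  have hCE' : ⁅C, E⁆ = ⊥ := by
    rw [Subgroup.commutator_eq_bot_iff_le_centralizer]
    exact fun c hc e he => ((hEC he) c hc).symm
  -- the derived subgroup of `E` lies in `C`
  have hder : ⁅E, E⁆ ≤ C := by
    by_contra hnot
    have hK : ⁅E, E⁆ ⊔ C = E :=
      hEmin _ inferInstance le_sup_right (fun h => hnot (le_sup_left.trans h.le))
        (sup_le (Subgroup.commutator_le_self E) hCE)
    have hperf : ⁅E, E⁆ ≤ ⁅⁅E, E⁆, ⁅E, E⁆⁆ := by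
      refine Subgroup.commutator_le.mpr fun x hx y hy => ?_
      rw [← hK] at hx hy
      obtain ⟨x', hx', c, hc, rfl⟩ := Subgroup.mem_sup_of_normal_right.mp hx
      obtain ⟨y', hy', c', hc', rfl⟩ := Subgroup.mem_sup_of_normal_right.mp hy
      have hmem : ∀ {w : G}, w ∈ E → ∀ {d : G}, d ∈ C → Commute d w := fun hw d hd => hEC hw d hd
      have hx'E := Subgroup.commutator_le_self E hx'
      have hy'E := Subgroup.commutator_le_self E hy'
      have h1 : Commute c y' := hmem hy'E hc
      have h2 : Commute c' x' := hmem hx'E hc'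
      have h3 : Commute c c' := hmem (hCE hc') hc
      have h4 : Commute c x' := hmem hx'E hc
      have h5 : Commute c' y' := hmem hy'E hc'
      have : ⁅x' * c, y' * c'⁆ = ⁅x', y'⁆ := by
        rw [commutatorElement_def, commutatorElement_def]
        calc x' * c * (y' * c') * (x' * c)⁻¹ * (y' * c')⁻¹
            = x' * (c * (y' * c')) * c⁻¹ * x'⁻¹ * c'⁻¹ * y'⁻¹ := by group
          _ = x' * (y' * c') * x'⁻¹ * c'⁻¹ * y'⁻¹ := by
              rw [(h1.mul_right h3).eq]; group
          _ = x' * y' * (c' * x'⁻¹) * c'⁻¹ * y'⁻¹ := by group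
          _ = x' * y' * x'⁻¹ * y'⁻¹ := by rw [h2.inv_right.eq]; group
      rw [this]
      exact Subgroup.commutator_mem_commutator hx' hy'
    have hbot : ⁅E, E⁆ = ⊥ := by
      by_contra hne
      haveI : Nontrivial (⁅E, E⁆ : Subgroup G) := (Subgroup.nontrivial_iff_ne_bot _).mpr hne
      haveI : Group.IsSolvable (⁅E, E⁆ : Subgroup G) :=
        Group.isSolvable_of_isSolvable_injective (Subgroup.subtype_injective _)
      have h := Subgroup.map_lt_map_iff_of_injective (Subgroup.subtype_injective ⁅E, E⁆) |>.mpr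
        (Group.IsSolvable.commutator_lt_top_of_nontrivial (⁅E, E⁆ : Subgroup G))
      rw [Subgroup.map_subtype_commutator, ← MonoidHom.range_eq_map, Subgroup.range_subtype] at h
      exact h.not_ge hperf
    exact hnot (hbot.le.trans bot_le)
  haveI hnil : Group.IsNilpotent E := by
    rw [Subgroup.isNilpotent_iff_lowerCentralSeries]
    refine ⟨2, ?_⟩
    rw [Subgroup.lowerCentralSeries_succ, Subgroup.lowerCentralSeries_succ,
      Subgroup.lowerCentralSeries_zero, ← le_bot_iff, ← hCE']
    exact Subgroup.commutator_mono hder le_rfl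
  by_cases hcyc : ∀ P : Sylow 2 E, IsCyclic P
  · exfalso
    haveI : IsZGroup E := ⟨fun p hp P => by
      haveI := Fact.mk hp
      by_cases h2 : p = 2
      · subst h2; exact hcyc P
      · haveI : IsCyclic ((P : Subgroup E).map E.subtype) :=
          isCyclic_of_odd hreg h2 (P.2.map E.subtype)
        exact isCyclic_of_surjective
          ((P : Subgroup E).equivMapOfInjective _ E.subtype_injective).symm (MulEquiv.surjective _)⟩
    exact hEne (hmax E hEn hCE inferInstance)
  push Not at hcyc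
  obtain ⟨P, hP⟩ := hcyc
  haveI := Fact.mk Nat.prime_two
  have hPn : (P : Subgroup E).Normal :=
    Sylow.normal_of_normalizerCondition Group.normalizerCondition_of_isNilpotent P
  haveI := P.characteristic_of_normal hPn
  refine ⟨(P : Subgroup E).map E.subtype, inferInstance,
    (Subgroup.map_subtype_le _).trans hEle, ?_⟩
  rcases cyclic_or_quaternion_eight hρ hreg (P.2.map E.subtype) (fun x hx y hy z hz => by
    have hxy := hder (Subgroup.commutator_mem_commutator (Subgroup.map_subtype_le _ hx)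
      (Subgroup.map_subtype_le _ hy))
    rw [commutatorElement_def] at hxy
    exact hEC (Subgroup.map_subtype_le _ hz) _ hxy) with h | h
  · haveI := h
    exact absurd (isCyclic_of_surjective
      ((P : Subgroup E).equivMapOfInjective _ E.subtype_injective).symm (MulEquiv.surjective _)) hP
  · exact h

end CfsgLib.TransLinear
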