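import Mathlib
import Cfsg.Agent.S0106

/-!
`Q₈` extended by an element of order three acting nontrivially gives `SL(2,3)`.
-/

set_option autoImplicit false
set_option linter.style.haveILetI false
set_option linter.unusedSectionVars false

namespace CfsgLib.TransLinear

open Cfsg.Agent.S0106 (theta nf star nf_star nf_bij theta_three theta_one exists_conj_theta)

local notation "Q8" => QuaternionGroup 2

theorem exists_slTwoThree {G : Type*} [Group G] [Finite G] {Q : Subgroup G} [Q.Normal]
    (f : Q8 ≃* Q) {g : G} (hg : orderOf g = 3) (hgQ : g ∉ Subgroup.centralizer (Q : Set G)) :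
    ∃ Φ : Matrix.SpecialLinearGroup (Fin 2) (ZMod 3) →* G, Function.Injective Φ := by
  haveI : Fact (Nat.Prime 3) := ⟨Nat.prime_three⟩
  let tr : G →* MulAut Q8 := (MulAut.congr f.symm).toMonoidHom.comp MulAut.conjNormal
  have htr : ∀ x, (f (tr g x) : G) = g * f x * g⁻¹ := fun x => by simp [tr, MulAut.congr]
  have hg3 : g ^ 3 = 1 := hg ▸ pow_orderOf_eq_one g
  have hα3 : tr g ^ 3 = 1 := by rw [← map_pow, hg3, map_one]
  have hne : tr g ≠ 1 := by
    intro h
    refine hgQ (Subgroup.mem_centralizer_iff.mpr fun u hu => ?_)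
    have h1 := htr (f.symm ⟨u, hu⟩)
    rw [h, MulAut.one_apply, MulEquiv.apply_symm_apply] at h1
    exact (eq_mul_inv_iff_mul_eq.mp h1)
  obtain ⟨s, hs, hsθ⟩ := (exists_conj_theta (tr g)).resolve_left (fun h4 => by
    apply hne
    calc tr g = tr g ^ 4 := by rw [pow_succ, hα3, one_mul]
      _ = 1 := h4)
  let ι : Q8 →* G := Q.subtype.comp (f.toMonoidHom.comp s)
  have hι : Function.Injective ι :=
    Q.subtype_injective.comp (f.injective.comp hs)
  have hgι : ∀ x, g * ι x * g⁻¹ = ι (theta x) := fun x => by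
    show g * (f (s x) : G) * g⁻¹ = (f (s (theta x)) : G)
    rw [← htr, hsθ]
  have hpow : ∀ (k : ℕ) x, g ^ k * ι x = ι (theta^[k] x) * g ^ k := by
    intro k
    induction k with
    | zero => simp
    | succ k ih =>
      intro x
      calc g ^ (k + 1) * ι x = g ^ k * (g * ι x * g⁻¹) * g := by rw [pow_succ]; group
        _ = g ^ k * ι (theta x) * g := by rw [hgι]
        _ = _ := by rw [ih, Function.iterate_succ_apply, pow_succ, mul_assoc]
  choose dec hdec using nf_bij.2
  let el : Q8 × Fin 3 → G := fun u => ι u.1 * g ^ u.2.val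
  have hel : ∀ u v, el (star u v) = el u * el v := by
    intro u v
    show ι (u.1 * theta^[u.2.val] v.1) * g ^ (u.2 + v.2).val =
      ι u.1 * g ^ u.2.val * (ι v.1 * g ^ v.2.val)
    rw [mul_assoc (ι u.1), ← mul_assoc (g ^ u.2.val), hpow, map_mul, mul_assoc (ι u.1),
      mul_assoc (ι (theta^[u.2.val] v.1)), ← pow_add, Fin.val_add]
    congr 2
    conv_rhs => rw [← Nat.mod_add_div (u.2.val + v.2.val) 3, pow_add, pow_mul, hg3, one_pow, mul_one]
  refine ⟨MonoidHom.mk' (fun t => el (dec t)) fun t t' => by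
    rw [← hel]
    exact congrArg el (nf_bij.1 _ _ (by rw [nf_star, hdec, hdec, hdec])), ?_⟩
  refine (injective_iff_map_eq_one _).mpr fun t ht => ?_
  rw [← hdec t]
  change el (dec t) = 1 at ht
  generalize dec t = u at ht ⊢
  obtain ⟨x, k⟩ := u
  change ι x * g ^ k.val = 1 at ht
  have hgk : g ^ k.val ∈ Q := by
    rw [eq_inv_of_mul_eq_one_right ht]; exact inv_mem (f (s x)).2
  have hk : k = 0 := by
    by_contra hk
    apply hgQ
    exfalso
    have hcop : (orderOf g).Coprime k.val := by
      rw [hg]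
      exact (Nat.prime_three.coprime_iff_not_dvd).mpr fun h =>
        hk (Fin.ext (Nat.eq_zero_of_dvd_of_lt h k.isLt))
    obtain ⟨m, hm⟩ := exists_pow_eq_self_of_coprime (x := g) (n := k.val) hcop.symm
    have hgmem : g ∈ Q := hm ▸ pow_mem hgk m
    have h8 : orderOf (⟨g, hgmem⟩ : Q) ∣ Nat.card Q := orderOf_dvd_natCard _
    rw [← Subgroup.orderOf_coe, hg, ← Nat.card_congr f.toEquiv, Nat.card_eq_fintype_card,
      QuaternionGroup.card] at h8
    omega
  subst hk
  rw [show ((0 : Fin 3) : ℕ) = 0 from rfl, pow_zero, mul_one] at ht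
  rw [show x = 1 from hι (ht.trans (map_one ι).symm)]
  exact theta_one

end CfsgLib.TransLinear
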