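import Mathlib
import Cfsg.Agent.Lib.TransLinear.Regular
import Cfsg.Agent.Lib.TransLinear.SLTwoThree
import Cfsg.Agent.Lib.Invol.SolvableCore
import Cfsg.Agent.S3742
import Cfsg.Agent.Lib.Transfer.Thompson

/-!
Solvable groups acting regularly on the nonzero vectors: semilinear or one of five exceptions.
-/

set_option autoImplicit false
set_option linter.style.haveILetI false
set_option linter.unusedSectionVars false
set_option linter.unusedSimpArgs false

namespace CfsgLib.TransLinear

local notation "Q8" => QuaternionGroup 2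

theorem quat_no_central_order_four : ∀ c : Q8, (∀ r, c * r = r * c) → c * c = 1 := by
  decide +kernel

theorem quat_order_four : ∀ c : Q8, c * c = 1 ∨ (c * c) * (c * c) = 1 ∧ c * c ≠ 1 := by
  decide +kernel

theorem quat_has_four : ∃ c : Q8, c * c ≠ 1 := ⟨QuaternionGroup.xa 0, by decide +kernel⟩

theorem quat_not_comm : ∃ c d : Q8, c * d ≠ d * c :=
  ⟨QuaternionGroup.a 1, QuaternionGroup.xa 0, by decide +kernel⟩

theorem arith_small {x d t : ℕ} (hx : 3 ^ d ≤ x) (hd : 0 < d) (ht : 2 ≤ t)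
    (hle : x ^ t - 1 ≤ 24 * d * (x - 1)) : d ≤ 4 ∧ x ≤ 24 * d ∧ t ≤ 3 := by
  have h3 : 3 ≤ x := le_trans (Nat.le_self_pow hd.ne' 3) hx
  obtain ⟨y, rfl⟩ : ∃ y, x = y + 1 := ⟨x - 1, by omega⟩
  rw [Nat.add_sub_cancel] at hle
  have h2 : (y + 1) ^ 2 ≤ (y + 1) ^ t := Nat.pow_le_pow_right (by omega) ht
  have hxle : y + 1 ≤ 24 * d := by
    by_contra hgt
    have : 24 * d * y + 1 < (y + 1) ^ 2 := by nlinarith
    omega
  have hd4 : d ≤ 4 := by
    by_contra hd5
    have hgrow : ∀ k, 5 ≤ k → 24 * k < 3 ^ k := by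
      intro k hk
      induction k, hk using Nat.le_induction with
      | base => norm_num
      | succ k hk ih => rw [pow_succ]; omega
    have := hgrow d (by omega)
    omega
  refine ⟨hd4, hxle, ?_⟩
  by_contra ht4
  have h4 : (y + 1) ^ 4 ≤ (y + 1) ^ t := Nat.pow_le_pow_right (by omega) (by omega)
  rcases (show d = 1 ∨ 2 ≤ d by omega) with rfl | hd2
  · have h5 : 27 * y + 1 < (y + 1) ^ 4 := by
      have h33 : 27 ≤ (y + 1) ^ 3 := Nat.pow_le_pow_left (show 3 ≤ y + 1 by omega) 3
      have := Nat.mul_le_mul_left (y + 1) h33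
      rw [← pow_succ'] at this
      norm_num at this ⊢
      omega
    omega
  · have h9 : 9 ≤ y + 1 :=
      le_trans (show 9 ≤ 3 ^ d by simpa using Nat.pow_le_pow_right (show 0 < 3 by norm_num) hd2) hx
    have h5 : 96 * y + 1 < (y + 1) ^ 4 := by
      have h33 : 729 ≤ (y + 1) ^ 3 := Nat.pow_le_pow_left h9 3
      have := Nat.mul_le_mul_left (y + 1) h33
      rw [← pow_succ'] at this
      norm_num at this ⊢
      omega
    have : 24 * d * y ≤ 96 * y := Nat.mul_le_mul_right y (by omega)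
    omega

theorem arith_bound {q d t : ℕ} (hq : 3 ≤ q) (hq2 : ¬ 2 ∣ q) (hd : 0 < d) (ht : 2 ≤ t)
    (h : q ^ (d * t) - 1 ∣ 24 * d * (q ^ d - 1)) :
    d = 1 ∧ t = 2 ∧ (q = 3 ∨ q = 5 ∨ q = 7 ∨ q = 11 ∨ q = 23) := by
  have hx2 : 2 ≤ q ^ d := le_trans (by omega) (Nat.le_self_pow hd.ne' q)
  have hle := Nat.le_of_dvd (Nat.mul_pos (by omega) (by omega)) h
  rw [pow_mul] at hle
  obtain ⟨hd4, hxle, ht3⟩ := arith_small (Nat.pow_le_pow_left hq d) hd ht hle
  clear hle hx2
  interval_cases d
  · have : q ≤ 24 := by simpa using hxle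
    interval_cases t <;> interval_cases q <;> first | omega | norm_num at h hq2 ⊢
  · have : q ≤ 6 := by nlinarith
    interval_cases t <;> interval_cases q <;> first | omega | norm_num at h hq2
  · have : q ≤ 4 := by
      by_contra hq5
      have := Nat.pow_le_pow_left (show 5 ≤ q by omega) 3
      norm_num at hxle this
      omega
    interval_cases t <;> interval_cases q <;> first | omega | norm_num at h hq2
  · have : q ≤ 3 := by
      by_contra hq5
      have := Nat.pow_le_pow_left (show 4 ≤ q by omega) 4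
      norm_num at hxle this
      omega
    interval_cases t <;> interval_cases q <;> first | omega | norm_num at h hq2

/-- A cyclic group of even order, or any group with cyclic quotient of even order, has a subgroup
of index two. -/
theorem exists_index_two_of_cyclic_image {G A : Type*} [Group G] [Finite G] [CommGroup A]
    [IsCyclic A] [Finite A] (f : G →* A) (h : 2 ∣ Nat.card f.range) :
    ∃ N : Subgroup G, N.Normal ∧ N.index = 2 := by
  let M : Subgroup f.range := (powMonoidHom 2 : f.range →* f.range).range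
  have hM : M.index = 2 := by
    rw [IsCyclic.index_powMonoidHom_range, Nat.gcd_eq_right h]
  refine ⟨M.comap f.rangeRestrict, inferInstance, ?_⟩
  rw [Subgroup.index_comap_of_surjective M f.rangeRestrict_surjective, hM]

/-- A cyclic Sylow 2-subgroup of a group of even order gives a subgroup of index two. -/
theorem exists_index_two_of_cyclic_sylow {G : Type*} [Group G] [Finite G] (S : Sylow 2 G)
    (hS : IsCyclic S) (h2 : 2 ∣ Nat.card G)
    (hn : Subgroup.normalizer ((S : Subgroup G) : Set G) ≤ Subgroup.centralizer (S : Set G)) :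
    ∃ N : Subgroup G, N.Normal ∧ N.index = 2 := by
  haveI := Fact.mk Nat.prime_two
  haveI : IsMulCommutative S := by infer_instance
  letI : CommGroup S := IsCyclic.commGroup
  let f : G →* S := MonoidHom.transferSylow S hn
  haveI := hS
  refine exists_index_two_of_cyclic_image f ?_
  have hc := MonoidHom.ker_transferSylow_isComplement' S hn
  have hcard : Nat.card f.range = Nat.card S := by
    rw [← Subgroup.index_ker]
    exact hc.symm.index_eq_card
  rw [hcard]
  exact S.dvd_card_of_dvd_card h2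

variable {q : ℕ} [hq : Fact q.Prime] {V : Type*} [AddCommGroup V] [Module (ZMod q) V] [Finite V]
  [Nontrivial V] {G : Type*} [Group G] [Finite G] {ρ : G →* (V ≃ₗ[ZMod q] V)}

theorem card_add_one (hρ : Function.Injective ρ)
    (htrans : ∀ v w : V, v ≠ 0 → w ≠ 0 → ∃ g : G, ρ g v = w)
    (hreg : ∀ v : V, v ≠ 0 → ∀ g : G, ρ g v = v → g = 1) : Nat.card G + 1 = Nat.card V := by
  classical
  obtain ⟨v₀, hv₀⟩ := exists_ne (0 : V)
  haveI := Fintype.ofFinite V
  have hb : Function.Bijective fun g : G => (⟨ρ g v₀, (ρ g).map_ne_zero_iff.mpr hv₀⟩ : {v : V // v ≠ 0}) := by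
    constructor
    · intro g h he
      have he' : ρ g v₀ = ρ h v₀ := congrArg Subtype.val he
      have := hreg v₀ hv₀ (h⁻¹ * g) (by rw [map_mul, LinearEquiv.mul_apply, he', inv_apply_apply])
      exact (inv_mul_eq_one.mp this).symm
    · rintro ⟨w, hw⟩
      obtain ⟨g, hg⟩ := htrans v₀ w hv₀ hw
      exact ⟨g, Subtype.ext hg⟩
  rw [Nat.card_congr (Equiv.ofBijective _ hb), Nat.card_eq_fintype_card, Nat.card_eq_fintype_card,
    Fintype.card_subtype_compl, Fintype.card_subtype_eq]
  have : 0 < Fintype.card V := Fintype.card_pos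
  omega

/-- The semilinear case. -/
theorem of_self_centralizing (hρ : Function.Injective ρ)
    (htrans : ∀ v w : V, v ≠ 0 → w ≠ 0 → ∃ g : G, ρ g v = w)
    (hreg : ∀ v : V, v ≠ 0 → ∀ g : G, ρ g v = v → g = 1) (C : Subgroup G) [C.Normal] [IsCyclic C]
    (hself : Subgroup.centralizer (C : Set G) ≤ C) :
    ((∃ (F : Type) (_ : Field F) (_ : Fintype F) (e : V ≃+ F),
        ∀ g : G, ∃ (a : F) (σ : F ≃+* F), ∀ v : V, e (ρ g v) = a * σ (e v)) ∧
      ∃ A : Subgroup G, A.Normal ∧ IsCyclic A ∧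
        ∀ W : Submodule (ZMod q) V, (∀ c ∈ A, ∀ w ∈ W, ρ c w ∈ W) → W = ⊥ ∨ W = ⊤) ∧
      (q ≠ 2 → ∃ N : Subgroup G, N.Normal ∧ N.index = 2) := by
  have hCcomm : ∀ x ∈ C, ∀ y ∈ C, x * y = y * x := fun x hx y hy =>
    congrArg Subtype.val (mul_comm' (⟨x, hx⟩ : C) ⟨y, hy⟩)
  obtain ⟨d, t, hd, ht, hV, -, hCd, ⟨f, hf⟩, hone⟩ := exists_field_data ρ hρ htrans C hCcomm
  have hCeq : Subgroup.centralizer (C : Set G) = C :=
    le_antisymm hself fun x hx y hy => hCcomm y hy x hx
  rw [hCeq] at hf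
  have hcard := card_add_one hρ htrans hreg
  have hG : Nat.card G = Nat.card C * Nat.card f.range := by
    rw [← Subgroup.index_ker, hf, Subgroup.card_mul_index]
  haveI : NeZero d := ⟨hd.ne'⟩
  have hrd : Nat.card f.range ∣ d := by
    have := Subgroup.card_subgroup_dvd_card f.range
    rwa [Nat.card_congr Multiplicative.toAdd, Nat.card_zmod] at this
  have hq1 : 1 < q := hq.out.one_lt
  have ht1 : t = 1 := by
    by_contra hne
    have h1 : Nat.card C * Nat.card f.range ≤ (q ^ d - 1) * d :=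
      Nat.mul_le_mul (Nat.le_of_dvd (Nat.sub_pos_of_lt (Nat.one_lt_pow hd.ne' hq1)) hCd)
        (Nat.le_of_dvd hd hrd)
    have h2 : (q ^ d) ^ 2 ≤ q ^ (d * t) := by
      rw [← pow_mul]; exact Nat.pow_le_pow_right (by omega) (Nat.mul_le_mul_left d (by omega))
    have h3 : d < q ^ d := d.lt_pow_self hq1
    obtain ⟨y, hy⟩ : ∃ y, q ^ d = y + 1 := ⟨q ^ d - 1, by omega⟩
    rw [hy] at h1 h2 h3
    simp only [Nat.add_sub_cancel] at h1
    have : y * d + 1 < (y + 1) ^ 2 := by nlinarith
    omega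
  refine ⟨⟨(hone ht1).1, C, inferInstance, inferInstance, (hone ht1).2.2⟩, fun hq2 => ?_⟩
  haveI := Fact.mk Nat.prime_two
  have h2G : 2 ∣ Nat.card G := by
    have : Odd (Nat.card V) := hV ▸ (hq.out.odd_of_ne_two hq2).pow
    rw [← hcard, Nat.odd_add_one, Nat.not_odd_iff_even] at this
    exact even_iff_two_dvd.mp this
  by_cases hr : 2 ∣ Nat.card f.range
  · exact exists_index_two_of_cyclic_image f hr
  -- the Sylow 2-subgroup lies in `C`
  obtain ⟨S⟩ : Nonempty (Sylow 2 G) := inferInstance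
  have hSC : (S : Subgroup G) ≤ C := by
    intro s hs
    rw [← hf, MonoidHom.mem_ker, ← orderOf_eq_one_iff]
    obtain ⟨k, hk⟩ := S.2 ⟨s, hs⟩
    have h1 : orderOf (f s) ∣ 2 ^ k := orderOf_dvd_of_pow_eq_one (by
      rw [← map_pow, show s ^ 2 ^ k = 1 from congrArg Subtype.val hk, map_one])
    have h2 : orderOf (f s) ∣ Nat.card f.range := by
      have := orderOf_dvd_natCard (f.rangeRestrict s)
      rwa [← Subgroup.orderOf_coe] at this
    exact Nat.eq_one_of_dvd_coprimes
      ((Nat.prime_two.coprime_iff_not_dvd.mpr hr).pow_left k) h1 h2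
  have hScyc : IsCyclic S :=
    isCyclic_of_injective (Subgroup.inclusion hSC) (Subgroup.inclusion_injective hSC)
  refine exists_index_two_of_cyclic_sylow S hScyc h2G fun g hg => ?_
  -- the automorphism induced by `g` has odd and 2-power order
  let φ := (S : Subgroup G).normalizerMonoidHom
  have hA : IsPGroup 2 (MulAut (S : Subgroup G)) := CfsgLib.SmallTwo.isPGroup_mulAut_cyclic S.2 hScyc
  obtain ⟨k, hk⟩ := hA (φ ⟨g, hg⟩)
  have hgC : g ^ Nat.card f.range ∈ C := by
    rw [← hf, MonoidHom.mem_ker, map_pow]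
    have := pow_card_eq_one' (x := f.rangeRestrict g)
    exact congrArg Subtype.val this
  have h2 : φ ⟨g, hg⟩ ^ Nat.card f.range = 1 := by
    rw [← map_pow, ← MonoidHom.mem_ker, Subgroup.normalizerMonoidHom_ker, Subgroup.mem_subgroupOf,
      Subgroup.mem_centralizer_iff]
    intro s hs
    exact hCcomm s (hSC hs) _ hgC
  have h1 : φ ⟨g, hg⟩ = 1 := orderOf_eq_one_iff.mp (Nat.eq_one_of_dvd_coprimes
    ((Nat.prime_two.coprime_iff_not_dvd.mpr hr).pow_left k) (orderOf_dvd_of_pow_eq_one hk)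
    (orderOf_dvd_of_pow_eq_one h2))
  rw [← MonoidHom.mem_ker, Subgroup.normalizerMonoidHom_ker] at h1
  exact h1

set_option maxHeartbeats 1000000 in
/-- Huppert's theorem for regular solvable linear groups. -/
theorem regular_main (hρ : Function.Injective ρ) [Group.IsSolvable G]
    (htrans : ∀ v w : V, v ≠ 0 → w ≠ 0 → ∃ g : G, ρ g v = w)
    (hreg : ∀ v : V, v ≠ 0 → ∀ g : G, ρ g v = v → g = 1) :
    (((∃ (F : Type) (_ : Field F) (_ : Fintype F) (e : V ≃+ F),
        ∀ g : G, ∃ (a : F) (σ : F ≃+* F), ∀ v : V, e (ρ g v) = a * σ (e v)) ∧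
      ∃ A : Subgroup G, A.Normal ∧ IsCyclic A ∧
        ∀ W : Submodule (ZMod q) V, (∀ c ∈ A, ∀ w ∈ W, ρ c w ∈ W) → W = ⊥ ∨ W = ⊤) ∨
      Nat.card V ∈ ({25, 49, 121, 529} : Set ℕ)) ∧
    (q ≠ 2 → (∃ N : Subgroup G, N.Normal ∧ N.index = 2) ∨
      (Nat.card V = 25 ∧ Nonempty (G ≃* Matrix.SpecialLinearGroup (Fin 2) (ZMod 3))) ∨
      (Nat.card V = 121 ∧ Nonempty (G ≃*
        Matrix.SpecialLinearGroup (Fin 2) (ZMod 3) × Multiplicative (ZMod 5)))) := by
  classical
  obtain ⟨C, -, hCmax⟩ := Finite.exists_le_maximal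
    (p := fun K : Subgroup G => K.Normal ∧ IsCyclic K) (a := ⊥) ⟨inferInstance, inferInstance⟩
  haveI : C.Normal := hCmax.prop.1
  haveI : IsCyclic C := hCmax.prop.2
  have hmax : ∀ E : Subgroup G, E.Normal → C ≤ E → IsCyclic E → E = C := fun E hn hle hc =>
    le_antisymm (hCmax.2 ⟨hn, hc⟩ hle) hle
  by_cases hself : Subgroup.centralizer (C : Set G) ≤ C
  · obtain ⟨h1, h2⟩ := of_self_centralizing hρ htrans hreg C hself
    exact ⟨Or.inl h1, fun h => Or.inl (h2 h)⟩
  set M := Subgroup.centralizer (C : Set G) with hM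
  have hCcomm : ∀ x ∈ C, ∀ y ∈ C, x * y = y * x := fun x hx y hy =>
    congrArg Subtype.val (mul_comm' (⟨x, hx⟩ : C) ⟨y, hy⟩)
  have hCM : C ≤ M := fun x hx y hy => hCcomm y hy x hx
  obtain ⟨Q, hQn, hQle, ⟨e⟩⟩ := exists_quaternion hρ hreg hmax (M := M) le_rfl hself
  haveI := hQn
  have hQM : Q ≤ M := hQle.trans (sup_le le_rfl hCM)
  -- nothing outside `Q` with nontrivial square in the centre centralizes `Q`
  have hfour : ∀ y : G, y ∈ Subgroup.centralizer (Q : Set G) → y * y ≠ 1 →
      (y * y) * (y * y) = 1 → False := by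
    intro y hy hy2 hy4
    obtain ⟨c, hc⟩ := quat_has_four
    have hx := (quat_order_four c).resolve_left hc
    set x : G := (e c : G) with hxd
    have hx2 : x * x ≠ 1 := fun h => hx.2 (e.injective (Subtype.ext (by
      simpa [map_mul, hxd] using h)))
    have hx4 : (x * x) * (x * x) = 1 := by
      have := congrArg (fun u : Q => (u : G)) (congrArg e hx.1)
      simpa [map_mul, hxd] using this
    have ho : ∀ u : G, u ≠ 1 → u * u = 1 → orderOf u = 2 := fun u h1 h2 =>
      orderOf_eq_prime (by rw [pow_two]; exact h2) h1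
    have heq : x * x = y * y := involution_unique hρ hreg (ho _ hx2 hx4) (ho _ hy2 hy4)
    have hcomm : Commute x y := hy x (e c).2
    have hz2 : (x * y⁻¹) * (x * y⁻¹) = 1 := by
      calc (x * y⁻¹) * (x * y⁻¹) = x * (y⁻¹ * x) * y⁻¹ := by group
        _ = (x * x) * (y * y)⁻¹ := by rw [hcomm.inv_right.symm.eq]; group
        _ = 1 := by rw [heq, mul_inv_cancel]
    have hyQ : y ∈ Q := by
      by_cases hz1 : x * y⁻¹ = 1
      · rw [← mul_inv_eq_one.mp hz1]; exact (e c).2
      · have hzz : x * y⁻¹ = x * x := involution_unique hρ hreg (ho _ hz1 hz2) (ho _ hx2 hx4)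
        rw [mul_left_cancel_iff, inv_eq_iff_eq_inv] at hzz
        rw [hzz]; exact inv_mem (e c).2
    have hcen : ∀ r, e.symm ⟨y, hyQ⟩ * r = r * e.symm ⟨y, hyQ⟩ := fun r => by
      apply e.injective
      apply Subtype.ext
      simp only [map_mul, MulEquiv.apply_symm_apply, Subgroup.coe_mul]
      exact (hy _ (e r).2).symm
    apply hy2
    have := congrArg (fun u : Q => (u : G)) (congrArg e (quat_no_central_order_four _ hcen))
    simpa [map_mul] using this
  have hD0 : M ⊓ Subgroup.centralizer (Q : Set G) ≤ C := by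
    by_contra hnot
    obtain ⟨Q', -, hQ'le, ⟨e'⟩⟩ := exists_quaternion hρ hreg hmax
      (M := M ⊓ Subgroup.centralizer (Q : Set G)) inf_le_left hnot
    have hCQ : C ≤ Subgroup.centralizer (Q : Set G) := fun c hc u hu => ((hQM hu) c hc).symm
    have hQ'c : Q' ≤ Subgroup.centralizer (Q : Set G) :=
      hQ'le.trans (sup_le inf_le_right hCQ)
    obtain ⟨c, hc⟩ := quat_has_four
    have hx := (quat_order_four c).resolve_left hc
    refine hfour (e' c : G) (hQ'c (e' c).2) (fun h => hx.2 (e'.injective (Subtype.ext (by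
      simpa [map_mul] using h)))) ?_
    have := congrArg (fun u : Q' => (u : G)) (congrArg e' hx.1)
    simpa [map_mul] using this
  -- the automorphisms of `Q` induced by `M`
  let ψ : G →* MulAut Q8 := (MulAut.congr e.symm).toMonoidHom.comp MulAut.conjNormal
  have hψ : ψ.ker = Subgroup.centralizer (Q : Set G) := by
    ext g
    simp only [MonoidHom.mem_ker, Subgroup.mem_centralizer_iff]
    constructor
    · intro h u hu
      have := congrArg (fun u : Q => (u : G)) (congrArg e (MulEquiv.congr_fun h (e.symm ⟨u, hu⟩)))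
      simp [ψ, MulAut.congr] at this
      exact (eq_mul_inv_iff_mul_eq.mp this.symm)
    · intro h
      refine MulEquiv.ext fun u => e.injective (Subtype.ext ?_)
      simp [ψ, MulAut.congr, ← h _ (e u).2, mul_assoc]
  obtain ⟨Φ⟩ := Cfsg.Agent.S3742.result
  have hAut : Nat.card (MulAut Q8) = 24 := by
    rw [Nat.card_congr Φ.toEquiv, Nat.card_perm, Nat.card_fin]; rfl
  have hkerM : (ψ.comp M.subtype).ker = C.subgroupOf M := by
    ext x
    rw [← MonoidHom.comap_ker, Subgroup.mem_comap, hψ, Subgroup.mem_subgroupOf]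
    exact ⟨fun h => hD0 ⟨x.2, h⟩, fun h u hu => ((hQM hu) _ h).symm⟩
  have hMcard : Nat.card M = Nat.card C * Nat.card (ψ.comp M.subtype).range := by
    rw [← Subgroup.index_ker, hkerM, ← Nat.card_congr (Subgroup.subgroupOfEquivOfLe hCM).toEquiv,
      Subgroup.card_mul_index]
  have hM24 : Nat.card (ψ.comp M.subtype).range ∣ 24 := hAut ▸ Subgroup.card_subgroup_dvd_card _
  obtain ⟨d, t, hd, ht, hV, -, hCd, ⟨f, hf⟩, hone⟩ := exists_field_data ρ hρ htrans C hCcomm
  haveI : NeZero d := ⟨hd.ne'⟩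
  have hrd : Nat.card f.range ∣ d := by
    have := Subgroup.card_subgroup_dvd_card f.range
    rwa [Nat.card_congr Multiplicative.toAdd, Nat.card_zmod] at this
  have hG : Nat.card G = Nat.card M * Nat.card f.range := by
    rw [← Subgroup.index_ker, hf, Subgroup.card_mul_index]
  have ht2 : 2 ≤ t := by
    by_contra h
    obtain ⟨a, b, hab⟩ := quat_not_comm
    refine hab (e.injective (Subtype.ext ?_))
    simp only [map_mul, Subgroup.coe_mul]
    exact (hone (by omega)).2.1 _ (hQM (e a).2) _ (hQM (e b).2)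
  have hq2 : q ≠ 2 := by
    rintro rfl
    obtain ⟨c, hc⟩ := quat_has_four
    have hx := (quat_order_four c).resolve_left hc
    have ho : orderOf ((e c : G) * e c) = 2 := by
      refine orderOf_eq_prime ?_ ?_
      · have := congrArg (fun u : Q => (u : G)) (congrArg e hx.1)
        rw [pow_two]; simpa [map_mul] using this
      · exact fun h => hx.2 (e.injective (Subtype.ext (by simpa [map_mul] using h)))
    exact prime_ne_of_orderOf hreg Nat.prime_two ho rfl
  have hcard := card_add_one hρ htrans hreg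
  have hdiv : q ^ (d * t) - 1 ∣ 24 * d * (q ^ d - 1) := by
    rw [← hV, ← hcard, Nat.add_sub_cancel, hG, hMcard]
    rw [show 24 * d * (q ^ d - 1) = (q ^ d - 1) * 24 * d by ring]
    exact mul_dvd_mul (mul_dvd_mul hCd hM24) hrd
  have hq3 : 3 ≤ q := by have := hq.out.two_le; omega
  obtain ⟨rfl, rfl, hqs⟩ := arith_bound hq3
    (fun h => hq2 ((Nat.prime_dvd_prime_iff_eq Nat.prime_two hq.out).mp h).symm) hd ht2 hdiv
  rw [Nat.dvd_one] at hrd
  rw [hrd, mul_one] at hG
  have hMtop : M = ⊤ := Subgroup.eq_top_of_card_eq M hG.symm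
  rw [pow_one] at hCd
  rw [one_mul] at hV
  have hCcen : ∀ c ∈ C, ∀ g : G, c * g = g * c := fun c hc g =>
    (show g ∈ M from hMtop ▸ Subgroup.mem_top g) c hc
  have hCQ : C = ψ.ker := by
    rw [hψ]
    exact le_antisymm (fun c hc u _ => (hCcen c hc u).symm)
      (fun g hg => hD0 ⟨hMtop ▸ Subgroup.mem_top g, hg⟩)
  have hGk : Nat.card G = Nat.card C * Nat.card ψ.range := by
    rw [← Subgroup.index_ker, ← hCQ, Subgroup.card_mul_index]
  have hC4 : ¬ 4 ∣ Nat.card C := by
    intro h
    obtain ⟨g, hg⟩ := IsCyclic.exists_ofOrder_eq_natCard (α := C)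
    have hz : orderOf ((g : G) ^ (Nat.card C / 4)) = 4 := by
      rw [← hg, ← Subgroup.orderOf_coe]
      exact orderOf_pow_orderOf_div (orderOf_pos _).ne' (by rw [Subgroup.orderOf_coe, hg]; exact h)
    have hmem : ψ ((g : G) ^ (Nat.card C / 4)) = 1 :=
      MonoidHom.mem_ker.mp (hCQ ▸ pow_mem g.2 _)
    set z : G := (g : G) ^ (Nat.card C / 4) with hzdef
    have hzc : z ∈ Subgroup.centralizer (Q : Set G) := by
      rw [← hψ]; exact MonoidHom.mem_ker.mpr hmem
    refine hfour z hzc (fun h2 => ?_) ?_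
    · have := orderOf_dvd_of_pow_eq_one (show z ^ 2 = 1 by
        rw [pow_two]; exact h2)
      rw [hz] at this
      omega
    · rw [← pow_two, ← pow_two, ← pow_mul, show 2 * 2 = orderOf z from hz.symm]
      exact pow_orderOf_eq_one _
  have hGq : Nat.card G = q ^ 2 - 1 := by rw [← hV, ← hcard, Nat.add_sub_cancel]
  -- nine vectors: the group is quaternion, hence semilinear
  by_cases hq9 : q = 3
  · subst hq9
    have hQtop : Q = ⊤ := Subgroup.eq_top_of_card_eq Q (by
      rw [hGq, ← Nat.card_congr e.toEquiv, Nat.card_eq_fintype_card, QuaternionGroup.card]; norm_num)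
    let x : G := (e (QuaternionGroup.a 1) : G)
    have hxo : orderOf x = 4 := by
      rw [show x = ((e (QuaternionGroup.a 1) : Q) : G) from rfl, Subgroup.orderOf_coe,
        MulEquiv.orderOf_eq, QuaternionGroup.orderOf_a_one]
    have hidx : (Subgroup.zpowers x).index = 2 := by
      have := Subgroup.card_mul_index (Subgroup.zpowers x)
      rw [Nat.card_zpowers, hxo, hGq] at this
      omega
    haveI := Subgroup.normal_of_index_eq_two hidx
    have hself : Subgroup.centralizer ((Subgroup.zpowers x : Subgroup G) : Set G) ≤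
        Subgroup.zpowers x := by
      intro y hy
      by_contra hny
      obtain ⟨a, b, hab⟩ := quat_not_comm
      refine hab (e.injective (Subtype.ext ?_))
      simp only [map_mul, Subgroup.coe_mul]
      have hcl : ∀ u : G, u ∈ Subgroup.zpowers x ∨ u * y⁻¹ ∈ Subgroup.zpowers x := by
        intro u
        by_cases hu : u ∈ Subgroup.zpowers x
        · exact Or.inl hu
        · right
          rw [Subgroup.mul_mem_iff_of_index_two hidx]
          simp [hu, hny]
      have hall : ∀ u : G, Commute u x ∧ Commute u y := by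
        intro u
        have hxy : Commute x y := hy x (Subgroup.mem_zpowers x)
        rcases hcl u with hu | hu
        · obtain ⟨i, rfl⟩ := Subgroup.mem_zpowers_iff.mp hu
          exact ⟨(Commute.refl x).zpow_left i, hxy.zpow_left i⟩
        · obtain ⟨i, hi⟩ := Subgroup.mem_zpowers_iff.mp hu
          rw [show u = x ^ i * y by rw [hi, inv_mul_cancel_right]]
          exact ⟨((Commute.refl x).zpow_left i).mul_left hxy.symm,
            (hxy.zpow_left i).mul_left (Commute.refl y)⟩
      rcases hcl (e a : G) with ha | ha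
      · obtain ⟨i, hi⟩ := Subgroup.mem_zpowers_iff.mp ha
        rw [← hi]
        exact ((hall (e b : G)).1.symm.zpow_left i).eq
      · obtain ⟨i, hi⟩ := Subgroup.mem_zpowers_iff.mp ha
        rw [show (e a : G) = x ^ i * y by rw [hi, inv_mul_cancel_right]]
        exact (((hall (e b : G)).1.symm.zpow_left i).mul_left (hall (e b : G)).2.symm).eq
    obtain ⟨h1, h2⟩ := of_self_centralizing hρ htrans hreg (Subgroup.zpowers x) hself
    exact ⟨Or.inl h1, fun h => Or.inl (h2 h)⟩
  have hmem : Nat.card V ∈ ({25, 49, 121, 529} : Set ℕ) := by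
    rw [hV]; rcases hqs with rfl | rfl | rfl | rfl | rfl <;> simp_all
  refine ⟨Or.inr hmem, fun _ => ?_⟩
  let χ : G →* ℤˣ := Equiv.Perm.sign.comp (Φ.toMonoidHom.comp ψ)
  by_cases hχ : ∃ u, χ u ≠ 1
  · obtain ⟨u, hu⟩ := hχ
    obtain ⟨N, hN, hN2, -⟩ := CfsgLib.Transfer.exists_index_two_of_hom χ hu
    exact Or.inl ⟨N, hN, hN2⟩
  push Not at hχ
  have h12 : Nat.card ψ.range ∣ 12 := by
    have hle : ψ.range.map Φ.toMonoidHom ≤ alternatingGroup (Fin 4) := by
      rintro _ ⟨_, ⟨u, rfl⟩, rfl⟩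
      exact Equiv.Perm.mem_alternatingGroup.mpr (hχ u)
    have := Subgroup.card_dvd_of_le hle
    rw [Subgroup.card_map_of_injective (f := Φ.toMonoidHom) Φ.injective] at this
    refine this.trans (dvd_of_eq ?_)
    rw [nat_card_alternatingGroup, Nat.card_fin]; rfl
  rw [hGk] at hGq
  have hk12 : Nat.card ψ.range ≤ 12 := Nat.le_of_dvd (by norm_num) h12
  have hcq : Nat.card C ≤ q - 1 := Nat.le_of_dvd (by omega) hCd
  have hcase : (q = 5 ∧ Nat.card C = 2 ∧ Nat.card ψ.range = 12) ∨
      (q = 11 ∧ Nat.card C = 10 ∧ Nat.card ψ.range = 12) := by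
    generalize Nat.card C = c at *
    generalize Nat.card ψ.range = k at *
    rcases hqs with rfl | rfl | rfl | rfl | rfl
    · exact absurd rfl hq9
    all_goals (interval_cases k <;> (try omega) <;> (try (norm_num at hGq h12)) <;> (try omega))
    all_goals
      have hc1 : c ≤ 48 := by omega
      interval_cases c <;> omega
  obtain ⟨g, hg⟩ : ∃ g : G, orderOf g = 3 := by
    haveI := Fact.mk Nat.prime_three
    refine exists_prime_orderOf_dvd_card' (G := G) 3 ?_
    rw [hGk]
    rcases hcase with ⟨-, h1, h2⟩ | ⟨-, h1, h2⟩ <;> rw [h1, h2] <;> norm_num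
  have hgQ : g ∉ Subgroup.centralizer (Q : Set G) := by
    intro h
    rw [← hψ, ← hCQ] at h
    have := orderOf_dvd_natCard (⟨g, h⟩ : C)
    rw [← Subgroup.orderOf_coe, hg] at this
    rcases hcase with ⟨-, h1, -⟩ | ⟨-, h1, -⟩ <;> rw [h1] at this <;> omega
  obtain ⟨Ψ, hΨ⟩ := exists_slTwoThree e hg hgQ
  have hS24 : Nat.card (Matrix.SpecialLinearGroup (Fin 2) (ZMod 3)) = 24 := by
    rw [Nat.card_eq_fintype_card]; decide +kernel
  rcases hcase with ⟨rfl, h1, h2⟩ | ⟨rfl, h1, h2⟩
  · refine Or.inr (Or.inl ⟨by rw [hV]; norm_num, ⟨(MulEquiv.ofBijective Ψ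
      ((Nat.bijective_iff_injective_and_card Ψ).mpr ⟨hΨ, ?_⟩)).symm⟩⟩)
    rw [hS24, hGk, h1, h2]
  · obtain ⟨c, hc⟩ := IsCyclic.exists_ofOrder_eq_natCard (α := C)
    set w : G := (c : G) ^ 2 with hw
    have hwo : orderOf w = 5 := by
      rw [hw, orderOf_pow' _ (by norm_num), Subgroup.orderOf_coe, hc, h1]; norm_num
    let π : Multiplicative (ZMod 5) ≃* Subgroup.zpowers w :=
      mulEquivOfCyclicCardEq (by
        rw [Nat.card_congr Multiplicative.toAdd, Nat.card_zmod, Nat.card_zpowers, hwo])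
    have hwc : ∀ (i : Multiplicative (ZMod 5)) (u : G), Commute (π i : G) u := fun i u =>
      hCcen _ (Subgroup.zpowers_le.mpr (pow_mem c.2 2) (π i).2) u
    let Ω : Matrix.SpecialLinearGroup (Fin 2) (ZMod 3) × Multiplicative (ZMod 5) →* G :=
      MonoidHom.mk' (fun u => Ψ u.1 * π u.2) fun u v => by
        simp only [Prod.fst_mul, Prod.snd_mul, map_mul, Subgroup.coe_mul]
        calc Ψ u.1 * Ψ v.1 * ((π u.2 : G) * π v.2) = Ψ u.1 * (Ψ v.1 * π u.2) * π v.2 := by group
          _ = Ψ u.1 * ((π u.2 : G) * Ψ v.1) * π v.2 := by rw [(hwc u.2 (Ψ v.1)).eq]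
          _ = _ := by group
    have hΩ : Function.Injective Ω := by
      refine (injective_iff_map_eq_one Ω).mpr ?_
      rintro ⟨a, i⟩ h
      change Ψ a * π i = 1 at h
      have ha : Ψ a = (π i : G)⁻¹ := eq_inv_of_mul_eq_one_left h
      have hd1 : orderOf (Ψ a) ∣ 24 := by
        rw [← hS24]; exact (orderOf_map_dvd Ψ a).trans (orderOf_dvd_natCard a)
      have hd2 : orderOf (Ψ a) ∣ 5 := by
        rw [ha, orderOf_inv, Subgroup.orderOf_coe]
        have := orderOf_dvd_natCard (π i)
        rwa [Nat.card_zpowers, hwo] at this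
      have h1' : Ψ a = 1 := orderOf_eq_one_iff.mp
        (Nat.eq_one_of_dvd_coprimes (by norm_num : Nat.Coprime 24 5) hd1 hd2)
      rw [h1', one_mul] at h
      refine Prod.ext (hΨ (h1'.trans (map_one Ψ).symm)) (π.injective (Subtype.ext ?_))
      show (π i : G) = π 1
      rw [map_one]; exact h
    refine Or.inr (Or.inr ⟨by rw [hV]; norm_num, ⟨(MulEquiv.ofBijective Ω
      ((Nat.bijective_iff_injective_and_card Ω).mpr ⟨hΩ, ?_⟩)).symm⟩⟩)
    rw [Nat.card_prod, hS24, Nat.card_congr Multiplicative.toAdd, Nat.card_zmod, hGk, h1, h2]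

end CfsgLib.TransLinear
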