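import Mathlib

/-!
Automorphisms of prime order of a group of prime exponent preserving a nondegenerate alternating
pairing.
-/

set_option autoImplicit false
set_option linter.style.haveILetI false
set_option linter.unusedSectionVars false
set_option linter.unusedSimpArgs false

namespace CfsgLib.TransLinear

variable {A : Type*} [CommGroup A] [Finite A]

/-- An alternating pairing with values in the units of `ℂ`. -/
structure AltPairing (A : Type*) [CommGroup A] where
  toHom : A →* A →* ℂˣ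
  self : ∀ a, toHom a a = 1

theorem AltPairing.swap (ω : AltPairing A) (a b : A) : ω.toHom b a = (ω.toHom a b)⁻¹ := by
  have h := ω.self (a * b)
  simp only [map_mul, MonoidHom.mul_apply, ω.self, one_mul, mul_one] at h
  exact eq_inv_of_mul_eq_one_left h

/-- The orthogonal subgroup. -/
def AltPairing.perp (ω : AltPairing A) (W : Subgroup A) : Subgroup A where
  carrier := {a | ∀ w ∈ W, ω.toHom a w = 1}
  mul_mem' {a b} ha hb := fun w hw => by
    rw [map_mul, MonoidHom.mul_apply, ha w hw, hb w hw, one_mul]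
  one_mem' := fun w _ => by rw [map_one, MonoidHom.one_apply]
  inv_mem' {a} ha := fun w hw => by rw [map_inv, MonoidHom.inv_apply, ha w hw, inv_one]

theorem AltPairing.mem_perp (ω : AltPairing A) {W : Subgroup A} {a : A} :
    a ∈ ω.perp W ↔ ∀ w ∈ W, ω.toHom a w = 1 := Iff.rfl

/-- The pairing is nondegenerate on `W`. -/
def AltPairing.NondegOn (ω : AltPairing A) (W : Subgroup A) : Prop :=
  W ⊓ ω.perp W = ⊥

/-- An isotropic subgroup of a nondegenerate pairing has order at most the square root. -/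
theorem AltPairing.card_sq_le (ω : AltPairing A) (hω : ω.NondegOn ⊤) {W : Subgroup A}
    (hW : W ≤ ω.perp W) : Nat.card W * Nat.card W ≤ Nat.card A := by
  -- `W` embeds in the characters of `A ⧸ W`
  have hle : ∀ w : W, W ≤ (ω.toHom w).ker := fun w v hv => hW w.2 v hv
  let f : W → ((A ⧸ W) →* ℂˣ) := fun w => QuotientGroup.lift W (ω.toHom w) (hle w)
  have hf : Function.Injective f := by
    intro u v h
    have h1 : ((u : A) / v) ∈ (⊤ : Subgroup A) ⊓ ω.perp ⊤ := by
      refine ⟨Subgroup.mem_top _, fun a _ => ?_⟩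
      have := DFunLike.congr_fun h (QuotientGroup.mk a)
      simp only [f, QuotientGroup.lift_mk] at this
      rw [map_div, MonoidHom.div_apply, this, div_self']
    rw [hω, Subgroup.mem_bot, div_eq_one] at h1
    exact Subtype.ext h1
  haveI : NeZero (Monoid.exponent (A ⧸ W)) := ⟨Monoid.exponent_ne_zero_of_finite⟩
  have h2 := CommGroup.card_monoidHom_of_hasEnoughRootsOfUnity (A ⧸ W) ℂ
  haveI : Finite ((A ⧸ W) →* ℂˣ) := Nat.finite_of_card_ne_zero (h2 ▸ Nat.card_pos.ne')
  have h3 := Nat.card_le_card_of_injective f hf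
  rw [h2] at h3
  calc Nat.card W * Nat.card W ≤ Nat.card (A ⧸ W) * Nat.card W := Nat.mul_le_mul_right _ h3
    _ = Nat.card A := W.card_eq_card_quotient_mul_card_subgroup.symm

/-- A subgroup on which the pairing is nondegenerate has square order. -/
theorem AltPairing.isSquare_card (ω : AltPairing A) :
    ∀ W : Subgroup A, ω.NondegOn W → IsSquare (Nat.card W) := by
  intro W
  induction W using WellFoundedLT.induction with
  | ind W IH =>
  intro hW
  rcases eq_or_ne W ⊥ with rfl | hne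
  · rw [Subgroup.card_bot]; exact IsSquare.one
  set N := Monoid.exponent W with hN
  have hN0 : N ≠ 0 := Monoid.exponent_ne_zero_of_finite
  haveI : NeZero N := ⟨hN0⟩
  have hexp : ∀ w ∈ W, w ^ N = 1 := fun w hw =>
    congrArg Subtype.val (Monoid.pow_exponent_eq_one (⟨w, hw⟩ : W))
  obtain ⟨⟨a, ha⟩, hao⟩ := Monoid.exists_orderOf_eq_exponent (G := W) Monoid.ExponentExists.of_finite
  rw [← Subgroup.orderOf_coe] at hao
  let χ : W →* ℂˣ := (ω.toHom a).comp W.subtype
  have hle : χ.range ≤ rootsOfUnity N ℂ := by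
    rintro _ ⟨w, rfl⟩
    rw [mem_rootsOfUnity, ← map_pow, Monoid.pow_exponent_eq_one, map_one]
  have hrange : χ.range = rootsOfUnity N ℂ := by
    haveI : Finite (rootsOfUnity N ℂ) := inferInstance
    refine Subgroup.eq_of_le_of_card_ge hle ?_
    rw [HasEnoughRootsOfUnity.natCard_rootsOfUnity ℂ N]
    have h2 : a ^ Nat.card χ.range ∈ W ⊓ ω.perp W := by
      refine ⟨pow_mem ha _, fun w hw => ?_⟩
      rw [map_pow, MonoidHom.pow_apply]
      exact congrArg Subtype.val (pow_card_eq_one' (x := χ.rangeRestrict ⟨w, hw⟩))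
    rw [hW, Subgroup.mem_bot, ← orderOf_dvd_iff_pow_eq_one, hao] at h2
    haveI : Finite χ.range := Finite.of_surjective χ.rangeRestrict χ.rangeRestrict_surjective
    exact Nat.le_of_dvd Nat.card_pos h2
  obtain ⟨g, hg⟩ := IsCyclic.exists_ofOrder_eq_natCard (α := rootsOfUnity N ℂ)
  rw [HasEnoughRootsOfUnity.natCard_rootsOfUnity ℂ N, ← Subgroup.orderOf_coe] at hg
  have hgmem : (g : ℂˣ) ∈ χ.range := by rw [hrange]; exact g.2
  obtain ⟨⟨b, hb⟩, hzb⟩ := hgmem
  set z := ω.toHom a b with hz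
  have hzo : orderOf z = N := by rw [← hg, ← hzb]; rfl
  -- pairing against `a` and `b`
  let Z := Subgroup.zpowers z
  have hmem : ∀ x ∈ W, ∀ c : A, ω.toHom x c ∈ Z := by
    intro x hx c
    have h1 : ω.toHom x c ∈ rootsOfUnity N ℂ := by
      rw [mem_rootsOfUnity, ← MonoidHom.pow_apply, ← map_pow, hexp x hx, map_one, MonoidHom.one_apply]
    have hZ : Z = rootsOfUnity N ℂ := by
      refine Subgroup.eq_of_le_of_card_ge (Subgroup.zpowers_le.mpr (by
        rw [mem_rootsOfUnity, ← hzo]; exact pow_orderOf_eq_one _)) ?_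
      rw [Nat.card_zpowers, hzo, HasEnoughRootsOfUnity.natCard_rootsOfUnity ℂ N]
    rw [hZ]; exact h1
  let φ : W →* Z × Z :=
    { toFun := fun x => (⟨ω.toHom x b, hmem x x.2 b⟩, ⟨ω.toHom x a, hmem x x.2 a⟩)
      map_one' := by ext <;> simp
      map_mul' := fun x y => by ext <;> simp }
  have hsurj : Function.Surjective φ := by
    rintro ⟨⟨u, hu⟩, ⟨v, hv⟩⟩
    obtain ⟨i, hi⟩ := Subgroup.mem_zpowers_iff.mp hu
    obtain ⟨j, hj⟩ := Subgroup.mem_zpowers_iff.mp hv
    refine ⟨⟨a ^ i * b ^ (-j), mul_mem (zpow_mem ha i) (zpow_mem hb _)⟩, ?_⟩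
    have h1 : ω.toHom b a = z⁻¹ := ω.swap a b
    ext
    · simp [φ, ω.self, ← hz, hi]
    · simp [φ, ω.self, h1, hj]
  have hN2 : 2 ≤ N := by
    rcases Nat.lt_or_ge N 2 with h | h
    · exact absurd (Subgroup.eq_bot_iff_forall _ |>.mpr fun w hw => by
        have := hexp w hw
        rwa [show N = 1 by omega, pow_one] at this) hne
    · exact h
  have hcard : Nat.card W = N * N * Nat.card φ.ker := by
    rw [← Subgroup.card_mul_index φ.ker, Subgroup.index_ker, MonoidHom.range_eq_top.mpr hsurj,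
      Subgroup.card_top, Nat.card_prod, Nat.card_zpowers, hzo]
    ring
  set P : Subgroup A := φ.ker.map W.subtype with hP
  have hPW : P ≤ W := Subgroup.map_subtype_le _
  have hPcard : Nat.card P = Nat.card φ.ker := Subgroup.card_map_of_injective W.subtype_injective
  have hlt : P < W := by
    refine lt_of_le_of_ne hPW fun h => ?_
    rw [← hPcard, h] at hcard
    have : 0 < Nat.card W := Nat.card_pos
    have h4 : 4 ≤ N * N := Nat.mul_le_mul hN2 hN2
    nlinarith
  have hnd : ω.NondegOn P := by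
    rw [AltPairing.NondegOn, Subgroup.eq_bot_iff_forall]
    rintro x ⟨hx, hxperp⟩
    have hxW := hPW hx
    have h2 : x ∈ W ⊓ ω.perp W := by
      refine ⟨hxW, fun w hw => ?_⟩
      obtain ⟨⟨y, hy⟩, hyk, rfl⟩ := hx
      obtain ⟨u, hu⟩ : ∃ u : W, u ∈ Subgroup.closure ({⟨a, ha⟩, ⟨b, hb⟩} : Set W) ∧
          φ u = φ ⟨w, hw⟩ := by
        obtain ⟨i, hi⟩ := Subgroup.mem_zpowers_iff.mp (φ ⟨w, hw⟩).1.2
        obtain ⟨j, hj⟩ := Subgroup.mem_zpowers_iff.mp (φ ⟨w, hw⟩).2.2
        refine ⟨⟨a, ha⟩ ^ i * ⟨b, hb⟩ ^ (-j),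
          mul_mem (zpow_mem (Subgroup.subset_closure (by simp)) i)
            (zpow_mem (Subgroup.subset_closure (by simp)) _), ?_⟩
        have h1 : ω.toHom b a = z⁻¹ := ω.swap a b
        ext
        · have hi' : z ^ i = ω.toHom w b := hi
          simp [φ, ω.self, ← hz, hi']
        · have hj' : z ^ j = ω.toHom w a := hj
          simp [φ, ω.self, h1, hj']
      have hq : (⟨w, hw⟩ : W) * u⁻¹ ∈ φ.ker := by
        rw [MonoidHom.mem_ker, map_mul, map_inv, hu.2, mul_inv_cancel]
      have h3 : ω.toHom y ((w : A) * (u : A)⁻¹) = 1 := hxperp _ ⟨_, hq, rfl⟩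
      have h4 : ω.toHom y (u : A) = 1 := by
        have hle : Subgroup.closure ({⟨a, ha⟩, ⟨b, hb⟩} : Set W) ≤
            ((ω.toHom y).comp W.subtype).ker := by
          rw [Subgroup.closure_le]
          have hk := MonoidHom.mem_ker.mp hyk
          rintro c (rfl | rfl)
          · exact congrArg Subtype.val (congrArg Prod.snd hk)
          · exact congrArg Subtype.val (congrArg Prod.fst hk)
        exact hle hu.1
      rw [map_mul, map_inv, h4, inv_one, mul_one] at h3
      exact h3
    rw [hW] at h2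
    exact Subgroup.mem_bot.mp h2
  obtain ⟨s, hs⟩ := IH P hlt hnd
  exact ⟨N * s, by rw [hcard, ← hPcard, hs]; ring⟩

/-- A group acting freely on the nonidentity elements of an invariant subgroup. -/
theorem card_dvd_sub_one {P : Subgroup (MulAut A)} {W : Subgroup A}
    (hW : ∀ σ ∈ P, ∀ w ∈ W, σ w ∈ W) (hfree : ∀ σ ∈ P, ∀ w ∈ W, σ w = w → w ≠ 1 → σ = 1) :
    Nat.card P ∣ Nat.card W - 1 := by
  classical
  let X := {w : W // w ≠ 1}
  letI : MulAction P X :=
    { smul := fun σ x => ⟨⟨σ.1 x.1.1, hW σ.1 σ.2 _ x.1.2⟩, fun h => x.2 (Subtype.ext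
        ((σ.1 : MulAut A).injective ((congrArg Subtype.val h).trans (map_one σ.1).symm)))⟩
      one_smul := fun x => Subtype.ext (Subtype.ext rfl)
      mul_smul := fun σ τ x => Subtype.ext (Subtype.ext rfl) }
  have hst : ∀ x : X, MulAction.stabilizer P x = ⊥ := fun x => by
    rw [Subgroup.eq_bot_iff_forall]
    intro σ hσ
    exact Subtype.ext (hfree σ.1 σ.2 _ x.1.2
      (congrArg (fun y : X => (y.1 : A)) hσ) fun h => x.2 (Subtype.ext h))
  haveI := Fintype.ofFinite W
  have h := Nat.card_congr (MulAction.selfEquivOrbitsQuotientProd' (G := P) (φ := Quotient.out)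
    (fun q => Quotient.out_eq q) hst)
  rw [Nat.card_prod] at h
  have hX : Nat.card X = Nat.card W - 1 := by
    rw [Nat.card_eq_fintype_card, Fintype.card_subtype_compl, Fintype.card_subtype_eq,
      Nat.card_eq_fintype_card]
  exact ⟨_, by rw [← hX, h, mul_comm]⟩

/-- A group of `ρ`-power order preserving a nondegenerate pairing on a group of order at most
`t ^ 2`, where `ρ ≥ t + 1`: then `ρ = t + 1`, the order is `t ^ 2`, and the action is free. -/
theorem AltPairing.prime_eq (ω : AltPairing A) (hω : ω.NondegOn ⊤) {ρ t : ℕ} (hρ : ρ.Prime) (hρ2 : ρ ≠ 2)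
    (hA : Nat.card A ≤ t * t) (htρ : t + 1 ≤ ρ) {P : Subgroup (MulAut A)} (hP : IsPGroup ρ P)
    (hPne : P ≠ ⊥) (hpres : ∀ σ ∈ P, ∀ a b : A, ω.toHom (σ a) (σ b) = ω.toHom a b) :
    ρ = t + 1 ∧ Nat.card A = t * t ∧ Nat.card P = ρ ∧ (2 ∣ t → ∀ a : A, a ^ 2 = 1) := by
  haveI := Fact.mk hρ
  have hρA : ρ.Coprime (Nat.card A) := (hρ.coprime_iff_not_dvd).mpr fun hd => by
    obtain ⟨s, hs⟩ : IsSquare (Nat.card (⊤ : Subgroup A)) := ω.isSquare_card ⊤ hω
    rw [Subgroup.card_top] at hs
    have hρs : ρ ∣ s := by rcases hρ.dvd_mul.mp (hs ▸ hd) with h | h <;> exact h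
    have hst : s ≤ t := Nat.mul_self_le_mul_self_iff.mp (hs ▸ hA)
    have hs0 : 0 < s := by
      rcases Nat.eq_zero_or_pos s with h | h
      · have := Nat.card_pos (α := A); rw [hs, h] at this; omega
      · exact h
    have := Nat.le_of_dvd hs0 hρs
    omega
  -- every element of order `ρ` acts freely on the whole of `A`
  have key : ∀ σ ∈ P, orderOf σ = ρ →
      (∀ a : A, σ a = a → a = 1) ∧ ρ = t + 1 ∧ Nat.card A = t * t ∧
        (2 ∣ t → ∀ a : A, a ^ 2 = 1) := by
    intro σ hσP hσ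
    -- the displacements
    let D : Subgroup A := (MonoidHom.mk' (fun a : A => σ a / a) fun a b => by
      simp only [map_mul]; exact mul_div_mul_comm _ _ _ _).range
    have hDmem : ∀ {x}, x ∈ D ↔ ∃ a, σ a / a = x := Iff.rfl
    have hDfpf : ∀ x ∈ D, σ x = x → x = 1 := by
      intro x hx hfx
      obtain ⟨a, rfl⟩ := hDmem.mp hx
      have hiter : ∀ i : ℕ, (σ ^ i : MulAut A) a = (σ a / a) ^ i * a := by
        intro i
        induction i with
        | zero => simp
        | succ i ih =>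
          rw [pow_succ', MulAut.mul_apply, ih, map_mul, map_pow, hfx, pow_succ, mul_assoc,
            div_mul_cancel]
      have h := hiter ρ
      rw [← hσ, pow_orderOf_eq_one, MulAut.one_apply, hσ, eq_comm, mul_eq_right] at h
      exact orderOf_eq_one_iff.mp (Nat.eq_one_of_dvd_coprimes hρA
        (orderOf_dvd_of_pow_eq_one h) (orderOf_dvd_natCard _))
    have hDinv : ∀ x ∈ D, σ x ∈ D := by
      intro x hx
      obtain ⟨a, rfl⟩ := hDmem.mp hx
      exact hDmem.mpr ⟨σ a, (map_div σ _ _).symm⟩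
    have hD1 : D ≠ ⊥ := by
      intro h
      have : σ = 1 := MulEquiv.ext fun a => by
        have h1 : σ a / a ∈ D := hDmem.mpr ⟨a, rfl⟩
        rw [h, Subgroup.mem_bot, div_eq_one] at h1
        exact h1
      rw [this, orderOf_one] at hσ
      exact hρ.ne_one hσ.symm
    obtain ⟨W, hWD, hWp, hWmin⟩ : ∃ W ≤ D, (W ≠ ⊥ ∧ ∀ x ∈ W, σ x ∈ W) ∧
        ∀ U ≤ W, U ≠ ⊥ → (∀ x ∈ U, σ x ∈ U) → U = W := by
      obtain ⟨W, hle, hW⟩ := Finite.exists_le_minimal
        (p := fun U : Subgroup A => U ≠ ⊥ ∧ ∀ x ∈ U, σ x ∈ U) (a := D) ⟨hD1, hDinv⟩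
      exact ⟨W, hle, hW.prop, fun U hU hU1 hU2 => le_antisymm hU (hW.2 ⟨hU1, hU2⟩ hU)⟩
    obtain ⟨hW1, hWinv⟩ := hWp
    have hWfpf : ∀ x ∈ W, σ x = x → x = 1 := fun x hx => hDfpf x (hWD hx)
    have hdvd : ρ ∣ Nat.card W - 1 := by
      rw [← hσ, ← Nat.card_zpowers σ]
      refine card_dvd_sub_one (W := W) ?_ ?_
      · rintro _ ⟨i, rfl⟩ w hw
        obtain ⟨n, hn⟩ : ∃ n : ℕ, σ ^ n = σ ^ i := by
          have := (mem_powers_iff_mem_zpowers (x := σ)).mpr ⟨i, rfl⟩
          exact this
        show (σ ^ i : MulAut A) w ∈ W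
        rw [← hn]
        clear hn
        induction n with
        | zero => exact hw
        | succ n ih => rw [pow_succ', MulAut.mul_apply]; exact hWinv _ ih
      · intro τ hτ w hw hfix hw1
        by_contra hτ1
        have ho : orderOf τ = ρ := by
          have h : orderOf τ ∣ ρ := by
            rw [← hσ, ← Nat.card_zpowers σ]
            have := orderOf_dvd_natCard (⟨τ, hτ⟩ : Subgroup.zpowers σ)
            rwa [← Subgroup.orderOf_coe] at this
          exact ((Nat.dvd_prime hρ).mp h).resolve_left (fun h' => hτ1 (orderOf_eq_one_iff.mp h'))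
        obtain ⟨n, hn⟩ := (mem_powers_iff_mem_zpowers (x := σ)).mpr hτ
        have hn' : σ ^ n = τ := hn
        have hcop : n.Coprime (orderOf σ) := by
          rw [hσ]
          refine ((hρ.coprime_iff_not_dvd).mpr fun hd => hτ1 ?_).symm
          rw [← hn', ← orderOf_dvd_iff_pow_eq_one, hσ]
          exact hd
        obtain ⟨m, hm⟩ := exists_pow_eq_self_of_coprime hcop
        refine hw1 (hWfpf w hw ?_)
        have hτm : ∀ j : ℕ, (τ ^ j : MulAut A) w = w := by
          intro j
          induction j with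
          | zero => rfl
          | succ j ih => rw [pow_succ', MulAut.mul_apply, ih, hfix]
        have := hτm m
        rwa [← hn', hm] at this
    -- isotropic or nondegenerate
    have hinvperp : ∀ x ∈ W ⊓ ω.perp W, σ x ∈ W ⊓ ω.perp W := by
      rintro x ⟨hxW, hxp⟩
      refine ⟨hWinv x hxW, fun w hw => ?_⟩
      -- `σ` is onto on `W`
      obtain ⟨w', hw', rfl⟩ : ∃ w' ∈ W, σ w' = w := by
        have hmap : W.map σ.toMonoidHom = W := Subgroup.eq_of_le_of_card_ge
          (Subgroup.map_le_iff_le_comap.mpr hWinv)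
          (Subgroup.card_map_of_injective (f := σ.toMonoidHom) σ.injective).ge
        exact hmap.symm.le hw
      rw [hpres σ hσP]
      exact hxp w' hw'
    have hW1lt : 1 < Nat.card W := by
      haveI : Nontrivial W := (Subgroup.nontrivial_iff_ne_bot W).mpr hW1
      exact Finite.one_lt_card
    have hρle := Nat.le_of_dvd (by omega) hdvd
    have hWA : Nat.card W ≤ Nat.card A := Subgroup.card_le_card_group W
    by_cases hiso : W ⊓ ω.perp W = ⊥
    · obtain ⟨s, hs⟩ := ω.isSquare_card W hiso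
      rw [hs] at hdvd hW1lt hWA
      have hst : s ≤ t := Nat.mul_self_le_mul_self_iff.mp (hWA.trans hA)
      obtain ⟨s', rfl⟩ : ∃ s', s = s' + 2 := ⟨s - 2, by
        rcases s with _ | _ | s <;> simp at hW1lt ⊢⟩
      have he : (s' + 2) * (s' + 2) - 1 = (s' + 1) * (s' + 3) := by
        have e : (s' + 2) * (s' + 2) = (s' + 1) * (s' + 3) + 1 := by ring
        rw [e, Nat.add_sub_cancel]
      rw [he] at hdvd
      have hρ' : ρ = t + 1 ∧ s' + 2 = t := by
        rcases hρ.dvd_mul.mp hdvd with h | h <;> have := Nat.le_of_dvd (by omega) h <;> omega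
      obtain ⟨hρt, hst'⟩ := hρ'
      rw [hst'] at hs hWA
      have hAeq : Nat.card A = t * t := le_antisymm hA hWA
      have hWtop : W = ⊤ := Subgroup.eq_top_of_card_eq W (by rw [hs, hAeq])
      refine ⟨fun a ha => hWfpf a (hWtop ▸ Subgroup.mem_top a) ha, hρt, hAeq, fun h2 a => ?_⟩
      -- the elements of order two form an invariant subgroup
      let U : Subgroup A := (powMonoidHom 2).ker
      have hU1 : U ≠ ⊥ := by
        haveI := Fact.mk Nat.prime_two
        obtain ⟨u, hu⟩ := exists_prime_orderOf_dvd_card' (G := A) 2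
          (hAeq ▸ h2.trans (dvd_mul_right t t))
        intro hbot
        have : u ∈ U := by
          show u ^ 2 = 1
          rw [← hu, pow_orderOf_eq_one]
        rw [hbot, Subgroup.mem_bot] at this
        rw [this, orderOf_one] at hu
        omega
      have hUW := hWmin U (hWtop ▸ le_top) hU1 (fun x hx => by
        show σ x ^ 2 = 1
        rw [← map_pow, show x ^ 2 = 1 from hx, map_one])
      exact (hUW.trans hWtop).symm.le (Subgroup.mem_top a)
    · exfalso
      have h := hWmin (W ⊓ ω.perp W) inf_le_left hiso hinvperp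
      have h2 := ω.card_sq_le hω (W := W) (h.symm.le.trans inf_le_right)
      have : Nat.card W ≤ t := Nat.mul_self_le_mul_self_iff.mp (h2.trans hA)
      omega
  -- some element has order `ρ`
  obtain ⟨k, hk⟩ := IsPGroup.iff_card.mp hP
  have hk0 : k ≠ 0 := by
    rintro rfl
    exact hPne (Subgroup.card_eq_one.mp (by simpa using hk))
  obtain ⟨σ, hσ⟩ := exists_prime_orderOf_dvd_card' (G := P) ρ (hk ▸ dvd_pow_self ρ hk0)
  obtain ⟨-, hρt, hAeq, hsq⟩ := key σ.1 σ.2 (by rw [Subgroup.orderOf_coe, hσ])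
  refine ⟨hρt, hAeq, ?_, hsq⟩
  have hfree : Nat.card P ∣ Nat.card (⊤ : Subgroup A) - 1 := by
    refine card_dvd_sub_one (fun _ _ _ _ => Subgroup.mem_top _) fun τ hτ a _ hfix ha1 => ?_
    by_contra hτ1
    obtain ⟨j, hj⟩ := (IsPGroup.iff_orderOf.mp hP) ⟨τ, hτ⟩
    rw [← Subgroup.orderOf_coe] at hj
    obtain ⟨i, rfl⟩ : ∃ i, j = i + 1 := ⟨j - 1, by
      rcases j with _ | j
      · exact absurd (orderOf_eq_one_iff.mp (by simpa using hj)) hτ1
      · omega⟩
    have ho : orderOf (τ ^ ρ ^ i) = ρ := by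
      rw [orderOf_pow' _ (pow_ne_zero _ hρ.ne_zero), hj,
        Nat.gcd_eq_right (pow_dvd_pow ρ (Nat.le_succ i)), pow_succ,
        Nat.mul_div_cancel_left _ (pow_pos hρ.pos i)]
    refine ha1 ((key _ (pow_mem hτ _) ho).1 a ?_)
    generalize ρ ^ i = m
    induction m with
    | zero => rfl
    | succ m ih => rw [pow_succ', MulAut.mul_apply, ih, hfix]
  rw [Subgroup.card_top, hAeq, hk] at hfree
  -- `ρ ^ 2` does not divide `(t - 1) * (t + 1)`
  have hk1 : k ≤ 1 := by
    by_contra hk2
    have h2 : ρ * ρ ∣ t * t - 1 := (by rw [← pow_two]; exact pow_dvd_pow ρ (by omega) : ρ * ρ ∣ ρ ^ k).trans hfree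
    obtain ⟨t', rfl⟩ : ∃ t', t = t' + 1 := ⟨t - 1, by have := hρ.two_le; omega⟩
    have he : (t' + 1) * (t' + 1) - 1 = t' * (t' + 2) := by
      have e : (t' + 1) * (t' + 1) = t' * (t' + 2) + 1 := by ring
      rw [e, Nat.add_sub_cancel]
    rw [he, show t' + 2 = ρ by omega] at h2
    have := Nat.dvd_of_mul_dvd_mul_right hρ.pos h2
    rcases Nat.eq_zero_or_pos t' with h0 | h0
    · omega
    · have := Nat.le_of_dvd h0 this; omega
  rw [hk, show k = 1 by omega, pow_one]

end CfsgLib.TransLinear
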