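import Mathlib
import Cfsg.Agent.Lib.TransLinear.Field
import Cfsg.Agent.Lib.TransLinear.Symplectic

/-!
The commutator pairing of a class two normal subgroup over a maximal cyclic normal subgroup.
-/

set_option autoImplicit false
set_option linter.style.haveILetI false
set_option linter.unusedSectionVars false
set_option linter.unusedSimpArgs false

open scoped commutatorElement

namespace CfsgLib.TransLinear

section Linear

variable {q : ℕ} [hq : Fact q.Prime] {V : Type*} [AddCommGroup V] [Module (ZMod q) V] [Finite V]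
  [Nontrivial V] {G : Type*} [Group G] [Finite G] {ρ : G →* (V ≃ₗ[ZMod q] V)}

theorem algOf_isDomain (htrans : ∀ v w : V, v ≠ 0 → w ≠ 0 → ∃ g : G, ρ g v = w) (C : Subgroup G)
    [C.Normal] (hC : ∀ x ∈ C, ∀ y ∈ C, x * y = y * x) : IsDomain (algOf ρ C) := by
  haveI : Nontrivial (algOf ρ C) := ⟨⟨0, 1, fun h => by
    obtain ⟨v, hv⟩ := exists_ne (0 : V)
    exact hv (LinearMap.congr_fun (congrArg Subtype.val h) v).symm⟩⟩
  haveI : NoZeroDivisors (algOf ρ C) := ⟨fun {a b} h => by
    by_contra hne
    push Not at hne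
    obtain ⟨v, hv⟩ : ∃ v, b.1 v ≠ 0 := by
      by_contra h'
      push Not at h'
      exact hne.2 (Subtype.ext (LinearMap.ext fun v => by rw [h' v]; rfl))
    exact hne.1 (Subtype.ext (eq_zero_of_apply_eq_zero ρ hC htrans a.2 hv
      (LinearMap.congr_fun (congrArg Subtype.val h) v)))⟩
  exact NoZeroDivisors.to_isDomain _

/-- Normal abelian subgroups of a faithful transitive linear group are cyclic. -/
theorem isCyclic_of_normal_comm (hρ : Function.Injective ρ)
    (htrans : ∀ v w : V, v ≠ 0 → w ≠ 0 → ∃ g : G, ρ g v = w) (C : Subgroup G) [C.Normal]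
    (hC : ∀ x ∈ C, ∀ y ∈ C, x * y = y * x) : IsCyclic C := by
  letI iA : CommRing (algOf ρ C) := { (inferInstance : Ring (algOf ρ C)) with
    mul_comm := fun a b => Subtype.ext (algOf_comm ρ hC a.2 b.2) }
  haveI : IsDomain (algOf ρ C) := algOf_isDomain htrans C hC
  let j : C →* algOf ρ C :=
    { toFun := fun c => ⟨endHom ρ c, mem_algOf ρ c.2⟩
      map_one' := Subtype.ext (map_one (endHom ρ))
      map_mul' := fun x y => Subtype.ext (map_mul (endHom ρ) (x : G) y) }
  refine isCyclic_of_subgroup_isDomain j fun x y h => Subtype.ext (hρ (LinearEquiv.ext fun v => ?_))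
  exact LinearMap.congr_fun (congrArg Subtype.val h) v

set_option synthInstance.maxHeartbeats 200000 in
set_option maxHeartbeats 1000000 in
/-- The index of `C` in `E` is at most the square of the dimension over the field of `C`. -/
theorem relIndex_le_sq (hρ : Function.Injective ρ)
    (htrans : ∀ v w : V, v ≠ 0 → w ≠ 0 → ∃ g : G, ρ g v = w) (C E : Subgroup G) [C.Normal]
    (hC : ∀ x ∈ C, ∀ y ∈ C, x * y = y * x) (hEC : E ≤ Subgroup.centralizer (C : Set G))
    (hder : ∀ x ∈ E, ∀ y ∈ E, ⁅x, y⁆ ∈ C) (hrad : E ⊓ Subgroup.centralizer (E : Set G) ≤ C)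
    {d t : ℕ} (hd : 0 < d) (hA : Nat.card (algOf ρ C) = q ^ d) (hV : Nat.card V = q ^ (d * t)) :
    C.relIndex E ≤ t * t := by
  classical
  haveI : Finite (Module.End (ZMod q) V) := Finite.of_injective _ DFunLike.coe_injective
  let A := algOf ρ C
  letI iA : CommRing A := { (inferInstance : Ring A) with
    mul_comm := fun a b => Subtype.ext (algOf_comm ρ hC a.2 b.2) }
  haveI : IsDomain A := algOf_isDomain htrans C hC
  letI : Field A := (Finite.isDomain_to_isField A).toField
  haveI : Module.Finite A V := Module.Finite.of_finite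
  have ht : Module.finrank A V = t := by
    have h := Module.natCard_eq_pow_finrank (K := A) (V := V)
    rw [hV, hA, ← pow_mul] at h
    exact (Nat.eq_of_mul_eq_mul_left hd (Nat.pow_right_injective hq.out.two_le h)).symm
  -- elements of `E` are `A`-linear
  have hlin : ∀ e : E, ∀ a ∈ A, ∀ v : V, ρ (e : G) (a v) = a (ρ (e : G) v) := by
    intro e a ha
    induction ha using Algebra.adjoin_induction with
    | mem x hx =>
      obtain ⟨c, hc, rfl⟩ := hx
      intro v
      rw [endHom_apply, endHom_apply, ← LinearEquiv.mul_apply, ← map_mul, ← LinearEquiv.mul_apply,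
        ← map_mul, hEC e.2 c hc]
    | algebraMap r =>
      intro v
      simp only [Module.algebraMap_end_apply]
      exact map_smul (ρ (e : G)) r v
    | add u w _ _ hu hw =>
      intro v
      rw [LinearMap.add_apply, LinearMap.add_apply, map_add, hu, hw]
    | mul u w _ _ hu hw =>
      intro v
      rw [Module.End.mul_apply, Module.End.mul_apply, hu, hw]
  let L : E → Module.End A V := fun e =>
    { toFun := fun v => ρ (e : G) v
      map_add' := fun v w => map_add _ v w
      map_smul' := fun a v => hlin e a.1 a.2 v }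
  let Q := (↥E ⧸ C.subgroupOf E)
  let rep : Q → E := Quotient.out
  have hindep : LinearIndependent A (fun x : Q => L (rep x)) := by
    rw [linearIndependent_iff']
    intro s
    induction s using Finset.induction_on with
    | empty => simp
    | insert b s hbs ih =>
      intro c hc
      have hsum : ∀ v : V, ∑ x ∈ insert b s, c x • ρ (rep x : G) v = 0 := fun v => by
        have := LinearMap.congr_fun hc v
        simpa [L] using this
      have hzero : ∀ x ∈ s, c x = 0 := by
        intro a ha
        have hab : a ≠ b := fun h => hbs (h ▸ ha)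
        obtain ⟨y, hy, hne⟩ : ∃ y ∈ E, ⁅y, (rep a : G)⁆ ≠ ⁅y, (rep b : G)⁆ := by
          by_contra h
          push Not at h
          refine hab ?_
          rw [← Quotient.out_eq a, ← Quotient.out_eq b]
          refine QuotientGroup.eq.mpr (Subgroup.mem_subgroupOf.mpr (hrad ?_))
          refine ⟨E.mul_mem (E.inv_mem (rep a).2) (rep b).2, fun z hz => ?_⟩
          have h1 := h z hz
          rw [commutatorElement_def, commutatorElement_def] at h1
          have h2 : z * (rep a : G) * z⁻¹ * (rep a : G)⁻¹ = z * (rep b : G) * z⁻¹ * (rep b : G)⁻¹ := h1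
          show z * ((rep a : G)⁻¹ * rep b) = (rep a : G)⁻¹ * rep b * z
          calc z * ((rep a : G)⁻¹ * rep b)
              = (rep a : G)⁻¹ * (z * rep a * z⁻¹ * (rep a : G)⁻¹)⁻¹ * (z * rep b * z⁻¹ * (rep b : G)⁻¹) * rep b * z := by group
            _ = _ := by rw [h2]; group
        let σ : Q → A := fun x => ⟨endHom ρ ⁅y, (rep x : G)⁆, mem_algOf ρ (hder y hy _ (rep x).2)⟩
        -- conjugate the relation by `y`
        have hy' : ∀ v : V, ∑ x ∈ insert b s, (c x * σ x) • ρ (rep x : G) v = 0 := by
          intro v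
          have h := congrArg (ρ y) (hsum (ρ y⁻¹ v))
          rw [map_zero, map_sum] at h
          refine Eq.trans (Finset.sum_congr rfl fun x _ => ?_) h
          show (c x).1 ((σ x).1 (ρ (rep x : G) v)) = ρ y ((c x).1 (ρ (rep x : G) (ρ y⁻¹ v)))
          rw [hlin ⟨y, hy⟩ _ (c x).2]
          congr 1
          show ρ ⁅y, (rep x : G)⁆ (ρ (rep x : G) v) = _
          rw [← LinearEquiv.mul_apply, ← map_mul, ← LinearEquiv.mul_apply, ← map_mul,
            ← LinearEquiv.mul_apply, ← map_mul, commutatorElement_def]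
          congr 2
          group
        have hdiff : ∑ x ∈ s, (c x * (σ x - σ b)) • L (rep x) = 0 := by
          refine LinearMap.ext fun v => ?_
          rw [LinearMap.zero_apply, LinearMap.sum_apply]
          have h1 := hy' v
          have h2 : ∑ x ∈ insert b s, (c x * σ b) • ρ (rep x : G) v = 0 := by
            rw [← smul_zero (σ b), ← hsum v, Finset.smul_sum]
            exact Finset.sum_congr rfl fun x _ => by rw [smul_smul, mul_comm]
          rw [Finset.sum_insert hbs] at h1 h2
          calc ∑ x ∈ s, ((c x * (σ x - σ b)) • L (rep x)) v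
              = (∑ x ∈ s, (c x * σ x) • ρ (rep x : G) v) - ∑ x ∈ s, (c x * σ b) • ρ (rep x : G) v := by
                rw [← Finset.sum_sub_distrib]
                refine Finset.sum_congr rfl fun x _ => ?_
                rw [LinearMap.smul_apply, mul_sub, sub_smul]; rfl
            _ = 0 := by
                rw [eq_neg_of_add_eq_zero_right h1, eq_neg_of_add_eq_zero_right h2]; abel
        have := ih _ hdiff a ha
        rcases mul_eq_zero.mp this with h | h
        · exact h
        · exfalso
          apply hne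
          rw [sub_eq_zero] at h
          exact hρ (LinearEquiv.ext fun v => LinearMap.congr_fun (congrArg Subtype.val h) v)
      intro x hx
      rcases Finset.mem_insert.mp hx with rfl | hx
      · obtain ⟨v, hv⟩ := exists_ne (0 : V)
        have h := hsum v
        rw [Finset.sum_insert hbs, Finset.sum_eq_zero (fun z hz => by rw [hzero z hz, zero_smul]),
          add_zero] at h
        rcases smul_eq_zero.mp h with h | h
        · exact h
        · exact absurd ((ρ (rep x : G)).map_eq_zero_iff.mp h) hv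
      · exact hzero x hx
  haveI : Fintype Q := Fintype.ofFinite Q
  have h := hindep.fintype_card_le_finrank
  rw [Module.finrank_linearMap, ht, ← Nat.card_eq_fintype_card] at h
  exact h

end Linear

section Pairing

variable {G : Type*} [Group G] [Finite G]

/-- The commutator pairing on `E / C`. -/
theorem exists_pairing (C E : Subgroup G) [hC : IsCyclic C]
    (hder : ∀ x ∈ E, ∀ y ∈ E, ⁅x, y⁆ ∈ C) (hcen : ∀ c ∈ C, ∀ x ∈ E, c * x = x * c)
    (hCE : C ≤ E) (hrad : E ⊓ Subgroup.centralizer (E : Set G) ≤ C) :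
    ∃ (_ : (C.subgroupOf E).Normal) (hcomm : ∀ a b : ↥E ⧸ C.subgroupOf E, a * b = b * a),
      letI : CommGroup (↥E ⧸ C.subgroupOf E) :=
        { (inferInstance : Group (↥E ⧸ C.subgroupOf E)) with mul_comm := hcomm }
      ∃ j : C →* ℂˣ, Function.Injective j ∧ ∃ ω : AltPairing (↥E ⧸ C.subgroupOf E), ω.NondegOn ⊤ ∧
        ∀ (x y : E) (h : ⁅(x : G), (y : G)⁆ ∈ C),
          ω.toHom (QuotientGroup.mk x) (QuotientGroup.mk y) = j ⟨_, h⟩ := by
  classical
  have hn : (C.subgroupOf E).Normal := ⟨fun c hc g => by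
    rw [Subgroup.mem_subgroupOf] at hc ⊢
    simp only [Subgroup.coe_mul, Subgroup.coe_inv]
    rw [← hcen _ hc _ g.2, mul_inv_cancel_right]
    exact hc⟩
  haveI := hn
  have hcomm : ∀ a b : ↥E ⧸ C.subgroupOf E, a * b = b * a := by
    intro a b
    obtain ⟨x, rfl⟩ := QuotientGroup.mk_surjective a
    obtain ⟨y, rfl⟩ := QuotientGroup.mk_surjective b
    rw [← QuotientGroup.mk_mul, ← QuotientGroup.mk_mul, QuotientGroup.eq, Subgroup.mem_subgroupOf]
    have := hder _ (inv_mem y.2) _ (inv_mem x.2)
    rw [commutatorElement_def] at this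
    simpa [mul_assoc] using this
  refine ⟨hn, hcomm, ?_⟩
  letI : CommGroup (↥E ⧸ C.subgroupOf E) :=
    { (inferInstance : Group (↥E ⧸ C.subgroupOf E)) with mul_comm := hcomm }
  haveI : NeZero (Nat.card C) := ⟨Nat.card_pos.ne'⟩
  let eC : C ≃* rootsOfUnity (Nat.card C) ℂ :=
    mulEquivOfCyclicCardEq (by rw [HasEnoughRootsOfUnity.natCard_rootsOfUnity ℂ (Nat.card C)])
  let j : C →* ℂˣ := (rootsOfUnity (Nat.card C) ℂ).subtype.comp eC.toMonoidHom
  have hj : Function.Injective j := Subtype.val_injective.comp eC.injective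
  refine ⟨j, hj, ?_⟩
  have hmulr : ∀ x ∈ E, ∀ y ∈ E, ∀ z ∈ E, ⁅x, y * z⁆ = ⁅x, y⁆ * ⁅x, z⁆ := fun x hx y hy z hz => by
    have h := (hcen _ (hder x hx z hz) y hy)
    calc ⁅x, y * z⁆ = ⁅x, y⁆ * (y * ⁅x, z⁆ * y⁻¹) := by simp only [commutatorElement_def]; group
      _ = ⁅x, y⁆ * ⁅x, z⁆ := by rw [← h, mul_inv_cancel_right]
  have hmull : ∀ x ∈ E, ∀ y ∈ E, ∀ z ∈ E, ⁅x * y, z⁆ = ⁅x, z⁆ * ⁅y, z⁆ := fun x hx y hy z hz => by
    have h := (hcen _ (hder y hy z hz) x hx)
    have hc : ⁅x, z⁆ * ⁅y, z⁆ = ⁅y, z⁆ * ⁅x, z⁆ :=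
      (hcen _ (hder y hy z hz) _ (hCE (hder x hx z hz))).symm
    calc ⁅x * y, z⁆ = (x * ⁅y, z⁆ * x⁻¹) * ⁅x, z⁆ := by simp only [commutatorElement_def]; group
      _ = _ := by rw [← h, mul_inv_cancel_right, hc]
  let f1 : E → ((↥E ⧸ C.subgroupOf E) →* ℂˣ) := fun x =>
    QuotientGroup.lift (C.subgroupOf E)
      (MonoidHom.mk' (fun y : E => j ⟨⁅(x : G), (y : G)⁆, hder _ x.2 _ y.2⟩) fun y z => by
        rw [← map_mul]; exact congrArg j (Subtype.ext (hmulr _ x.2 _ y.2 _ z.2)))
      (fun c hc => by
        show j _ = 1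
        rw [← map_one j]
        refine congrArg j (Subtype.ext ?_)
        show ⁅(x : G), (c : G)⁆ = 1
        rw [commutatorElement_eq_one_iff_mul_comm]
        exact (hcen _ hc _ x.2).symm)
  have hf1 : ∀ (x y : E), f1 x (QuotientGroup.mk y) = j ⟨⁅(x : G), (y : G)⁆, hder _ x.2 _ y.2⟩ :=
    fun x y => rfl
  let F : (↥E ⧸ C.subgroupOf E) →* (↥E ⧸ C.subgroupOf E) →* ℂˣ :=
    QuotientGroup.lift (C.subgroupOf E)
      (MonoidHom.mk' f1 fun x x' => MonoidHom.ext fun b => by
        obtain ⟨y, rfl⟩ := QuotientGroup.mk_surjective b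
        rw [MonoidHom.mul_apply, hf1, hf1, hf1, ← map_mul]
        exact congrArg j (Subtype.ext (hmull _ x.2 _ x'.2 _ y.2)))
      (fun c hc => by
        refine MonoidHom.ext fun b => ?_
        obtain ⟨y, rfl⟩ := QuotientGroup.mk_surjective b
        show j _ = 1
        rw [← map_one j]
        refine congrArg j (Subtype.ext ?_)
        show ⁅(c : G), (y : G)⁆ = 1
        rw [commutatorElement_eq_one_iff_mul_comm]
        exact hcen _ hc _ y.2)
  refine ⟨⟨F, fun a => ?_⟩, ?_, fun x y h => rfl⟩
  · obtain ⟨x, rfl⟩ := QuotientGroup.mk_surjective a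
    show j _ = 1
    rw [← map_one j]
    exact congrArg j (Subtype.ext (commutatorElement_self (x : G)))
  · rw [AltPairing.NondegOn, Subgroup.eq_bot_iff_forall]
    rintro a ⟨-, ha⟩
    obtain ⟨x, rfl⟩ := QuotientGroup.mk_surjective a
    rw [QuotientGroup.eq_one_iff, Subgroup.mem_subgroupOf]
    refine hrad ⟨x.2, fun y hy => ?_⟩
    have h := ha (QuotientGroup.mk ⟨y, hy⟩) (Subgroup.mem_top _)
    have h' : (⟨⁅(x : G), y⁆, hder _ x.2 _ hy⟩ : C) = 1 := hj (h.trans (map_one j).symm)
    exact (commutatorElement_eq_one_iff_mul_comm.mp (congrArg Subtype.val h')).symm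

end Pairing

end CfsgLib.TransLinear
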