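import Mathlib
import Cfsg.Agent.Lib.TransLinear.Pairing
import Cfsg.Agent.Lib.TransLinear.Huppert
import Cfsg.Agent.Lib.NumberTheory.Zsigmondy

/-!
Solvable groups transitive on nonzero vectors: semilinear or of six exceptional orders.
-/

set_option autoImplicit false
set_option linter.style.haveILetI false
set_option linter.unusedSectionVars false
set_option linter.unusedSimpArgs false

open scoped commutatorElement

namespace CfsgLib.TransLinear

variable {q : ℕ} [hq : Fact q.Prime] {V : Type*} [AddCommGroup V] [Module (ZMod q) V] [Finite V]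
  [Nontrivial V] {G : Type*} [Group G] [Finite G] {ρ : G →* (V ≃ₗ[ZMod q] V)}

theorem card_sub_one_dvd (htrans : ∀ v w : V, v ≠ 0 → w ≠ 0 → ∃ g : G, ρ g v = w) :
    Nat.card V - 1 ∣ Nat.card G := by
  classical
  let X := {v : V // v ≠ 0}
  letI : MulAction G X :=
    { smul := fun g x => ⟨ρ g x.1, (ρ g).map_ne_zero_iff.mpr x.2⟩
      one_smul := fun x => Subtype.ext (by show ρ 1 x.1 = x.1; rw [map_one]; rfl)
      mul_smul := fun g h x => Subtype.ext (by
        show ρ (g * h) x.1 = ρ g (ρ h x.1)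
        rw [map_mul]; rfl) }
  haveI : MulAction.IsPretransitive G X := ⟨fun x y => by
    obtain ⟨g, hg⟩ := htrans x.1 y.1 x.2 y.2
    exact ⟨g, Subtype.ext hg⟩⟩
  obtain ⟨v, hv⟩ := exists_ne (0 : V)
  haveI := Fintype.ofFinite V
  have h := MulAction.index_stabilizer_of_transitive G (⟨v, hv⟩ : X)
  have hX : Nat.card X = Nat.card V - 1 := by
    rw [Nat.card_eq_fintype_card, Fintype.card_subtype_compl, Fintype.card_subtype_eq,
      Nat.card_eq_fintype_card]
  rw [← hX, ← h]
  exact Subgroup.index_dvd_card _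

/-- The semilinear case. -/
theorem semilinear_of_self_centralizing (hρ : Function.Injective ρ)
    (htrans : ∀ v w : V, v ≠ 0 → w ≠ 0 → ∃ g : G, ρ g v = w) (C : Subgroup G) [C.Normal]
    [IsCyclic C] (hself : Subgroup.centralizer (C : Set G) ≤ C) :
    ∃ (F : Type) (_ : Field F) (_ : Fintype F) (e : V ≃+ F),
      ∀ g : G, ∃ (a : F) (σ : F ≃+* F), ∀ v : V, e (ρ g v) = a * σ (e v) := by
  have hCcomm : ∀ x ∈ C, ∀ y ∈ C, x * y = y * x := fun x hx y hy =>
    congrArg Subtype.val (mul_comm' (⟨x, hx⟩ : C) ⟨y, hy⟩)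
  obtain ⟨d, t, hd, ht, hV, -, hCd, ⟨f, hf⟩, hone⟩ := exists_field_data ρ hρ htrans C hCcomm
  have hCeq : Subgroup.centralizer (C : Set G) = C :=
    le_antisymm hself fun x hx y hy => hCcomm y hy x hx
  rw [hCeq] at hf
  have hG : Nat.card G = Nat.card C * Nat.card f.range := by
    rw [← Subgroup.index_ker, hf, Subgroup.card_mul_index]
  haveI : NeZero d := ⟨hd.ne'⟩
  have hrd : Nat.card f.range ∣ d := by
    have := Subgroup.card_subgroup_dvd_card f.range
    rwa [Nat.card_congr Multiplicative.toAdd, Nat.card_zmod] at this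
  have hq1 : 1 < q := hq.out.one_lt
  refine (hone ?_).1
  by_contra hne
  have h1 : Nat.card C * Nat.card f.range ≤ (q ^ d - 1) * d :=
    Nat.mul_le_mul (Nat.le_of_dvd (Nat.sub_pos_of_lt (Nat.one_lt_pow hd.ne' hq1)) hCd)
      (Nat.le_of_dvd hd hrd)
  have h0 := Nat.le_of_dvd Nat.card_pos (card_sub_one_dvd htrans)
  have h2 : (q ^ d) ^ 2 ≤ q ^ (d * t) := by
    rw [← pow_mul]; exact Nat.pow_le_pow_right (by omega) (Nat.mul_le_mul_left d (by omega))
  have h3 : d < q ^ d := d.lt_pow_self hq1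
  rw [hV] at h0
  obtain ⟨y, hy⟩ : ∃ y, q ^ d = y + 1 := ⟨q ^ d - 1, by omega⟩
  rw [hy] at h1 h2 h3
  simp only [Nat.add_sub_cancel] at h1
  have : y * d + 1 < (y + 1) ^ 2 := by nlinarith
  omega

/-- A minimal normal subgroup above a central cyclic `C` has derived subgroup inside `C`. -/
theorem derived_le_of_minimal [Group.IsSolvable G] (C E : Subgroup G) [C.Normal] [E.Normal]
    (hCE : C ≤ E) (hEC : E ≤ Subgroup.centralizer (C : Set G))
    (hmin : ∀ K : Subgroup G, K.Normal → C ≤ K → K ≠ C → K ≤ E → K = E) : ⁅E, E⁆ ≤ C := by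
  by_contra hnot
  have hK : ⁅E, E⁆ ⊔ C = E :=
    hmin _ inferInstance le_sup_right (fun h => hnot (le_sup_left.trans h.le))
      (sup_le (Subgroup.commutator_le_self E) hCE)
  have hperf : ⁅E, E⁆ ≤ ⁅⁅E, E⁆, ⁅E, E⁆⁆ := by
    refine Subgroup.commutator_le.mpr fun x hx y hy => ?_
    rw [← hK] at hx hy
    obtain ⟨x', hx', c, hc, rfl⟩ := Subgroup.mem_sup_of_normal_right.mp hx
    obtain ⟨y', hy', c', hc', rfl⟩ := Subgroup.mem_sup_of_normal_right.mp hy
    have hmem : ∀ {w : G}, w ∈ E → ∀ {d : G}, d ∈ C → Commute d w := fun hw d hd => hEC hw d hd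
    have h1 : Commute c y' := hmem (Subgroup.commutator_le_self E hy') hc
    have h2 : Commute c' x' := hmem (Subgroup.commutator_le_self E hx') hc'
    have h3 : Commute c c' := hmem (hCE hc') hc
    have : ⁅x' * c, y' * c'⁆ = ⁅x', y'⁆ := by
      rw [commutatorElement_def, commutatorElement_def]
      calc x' * c * (y' * c') * (x' * c)⁻¹ * (y' * c')⁻¹
          = x' * (c * (y' * c')) * c⁻¹ * x'⁻¹ * c'⁻¹ * y'⁻¹ := by group
        _ = x' * (y' * c') * x'⁻¹ * c'⁻¹ * y'⁻¹ := by
            rw [(h1.mul_right h3).eq]; group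
        _ = x' * y' * (c' * x'⁻¹) * c'⁻¹ * y'⁻¹ := by group
        _ = x' * y' * x'⁻¹ * y'⁻¹ := by rw [h2.inv_right.eq]; group
    rw [this]
    exact Subgroup.commutator_mem_commutator hx' hy'
  have hbot : ⁅E, E⁆ = ⊥ := by
    by_contra hne
    haveI : Nontrivial (⁅E, E⁆ : Subgroup G) := (Subgroup.nontrivial_iff_ne_bot _).mpr hne
    haveI : Group.IsSolvable (⁅E, E⁆ : Subgroup G) :=
      Group.isSolvable_of_isSolvable_injective (Subgroup.subtype_injective _)
    have h := Subgroup.map_lt_map_iff_of_injective (Subgroup.subtype_injective ⁅E, E⁆) |>.mpr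
      (Group.IsSolvable.commutator_lt_top_of_nontrivial (⁅E, E⁆ : Subgroup G))
    rw [Subgroup.map_subtype_commutator, ← MonoidHom.range_eq_map, Subgroup.range_subtype] at h
    exact h.not_ge hperf
  exact hnot (hbot.le.trans bot_le)

/-- A maximal class two normal subgroup over `C` inside its centralizer. -/
theorem exists_class_two [Group.IsSolvable G] (hρ : Function.Injective ρ)
    (htrans : ∀ v w : V, v ≠ 0 → w ≠ 0 → ∃ g : G, ρ g v = w) (C : Subgroup G) [C.Normal]
    [IsCyclic C] (hmax : ∀ K : Subgroup G, K.Normal → C ≤ K → IsCyclic K → K = C)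
    (hns : ¬ Subgroup.centralizer (C : Set G) ≤ C) :
    ∃ E : Subgroup G, E.Normal ∧ C ≤ E ∧ ¬ E ≤ C ∧ E ≤ Subgroup.centralizer (C : Set G) ∧
      (∀ x ∈ E, ∀ y ∈ E, ⁅x, y⁆ ∈ C) ∧
      Subgroup.centralizer (C : Set G) ⊓ Subgroup.centralizer (E : Set G) ≤ C := by
  classical
  have hCc : C ≤ Subgroup.centralizer (C : Set G) := fun x hx y hy =>
    congrArg Subtype.val (mul_comm' (⟨y, hy⟩ : C) ⟨x, hx⟩)
  obtain ⟨E, hCE, hE⟩ := Finite.exists_le_maximal
    (p := fun K : Subgroup G => K.Normal ∧ K ≤ Subgroup.centralizer (C : Set G) ∧ ⁅K, K⁆ ≤ C)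
    (a := C) ⟨inferInstance, hCc, Subgroup.commutator_le_self C⟩
  obtain ⟨hEn, hEM, hEd⟩ := hE.prop
  haveI := hEn
  have hX : Subgroup.centralizer (C : Set G) ⊓ Subgroup.centralizer (E : Set G) ≤ C := by
    by_contra hnot
    set X := Subgroup.centralizer (C : Set G) ⊓ Subgroup.centralizer (E : Set G) with hXdef
    have hCX : C ≤ X := le_inf hCc fun c hc e he => ((hEM he) c hc).symm
    obtain ⟨E', hle, ⟨hEn', hCE', hne'⟩, hmin⟩ : ∃ E' ≤ X, (E'.Normal ∧ C ≤ E' ∧ E' ≠ C) ∧
        ∀ K : Subgroup G, K.Normal → C ≤ K → K ≠ C → K ≤ E' → K = E' := by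
      obtain ⟨E', hle, hE'⟩ := Finite.exists_le_minimal
        (p := fun K : Subgroup G => K.Normal ∧ C ≤ K ∧ K ≠ C) (a := X)
        ⟨inferInstance, hCX, fun h => hnot h.le⟩
      exact ⟨E', hle, hE'.prop, fun K hK hCK hKne hKE => le_antisymm hKE (hE'.2 ⟨hK, hCK, hKne⟩ hKE)⟩
    haveI := hEn'
    have hd' : ⁅E', E'⁆ ≤ C := derived_le_of_minimal C E' hCE' (hle.trans inf_le_left) hmin
    have hEE' : E' ≤ Subgroup.centralizer (E : Set G) := hle.trans inf_le_right
    have hbot : ⁅E', E⁆ = ⊥ := Subgroup.commutator_eq_bot_iff_le_centralizer.mpr hEE'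
    have hsup : ⁅E ⊔ E', E ⊔ E'⁆ ≤ C := by
      refine Subgroup.commutator_le.mpr fun x hx y hy => ?_
      obtain ⟨a, ha, a', ha', rfl⟩ := Subgroup.mem_sup_of_normal_right.mp hx
      obtain ⟨b, hb, b', hb', rfl⟩ := Subgroup.mem_sup_of_normal_right.mp hy
      have h1 : Commute a' b := (hEE' ha' b hb).symm
      have h2 : Commute b' a := (hEE' hb' a ha).symm
      have h3 := hd' (Subgroup.commutator_mem_commutator ha' hb')
      have h4 := hEd (Subgroup.commutator_mem_commutator ha hb)
      have h5 : Commute ⁅a', b'⁆ a := (hEM ha) _ h3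
      have h6 : Commute ⁅a', b'⁆ b := (hEM hb) _ h3
      have : ⁅a * a', b * b'⁆ = ⁅a, b⁆ * ⁅a', b'⁆ := by
        rw [commutatorElement_def, commutatorElement_def, commutatorElement_def]
        calc a * a' * (b * b') * (a * a')⁻¹ * (b * b')⁻¹
            = a * (a' * b) * b' * a'⁻¹ * a⁻¹ * b'⁻¹ * b⁻¹ := by group
          _ = a * b * (a' * b' * a'⁻¹) * (a⁻¹ * b'⁻¹) * b⁻¹ := by rw [h1.eq]; group
          _ = a * b * ((a' * b' * a'⁻¹ * b'⁻¹) * a⁻¹) * b⁻¹ := by
              rw [show a⁻¹ * b'⁻¹ = b'⁻¹ * a⁻¹ from (h2.inv_inv).symm.eq]; group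
          _ = a * b * a⁻¹ * ((a' * b' * a'⁻¹ * b'⁻¹) * b⁻¹) := by
              rw [show (a' * b' * a'⁻¹ * b'⁻¹) * a⁻¹ = a⁻¹ * (a' * b' * a'⁻¹ * b'⁻¹) from
                h5.inv_right.eq]; group
          _ = _ := by
              rw [show (a' * b' * a'⁻¹ * b'⁻¹) * b⁻¹ = b⁻¹ * (a' * b' * a'⁻¹ * b'⁻¹) from
                h6.inv_right.eq]; group
      rw [this]
      exact mul_mem h4 h3
    have heq : E ⊔ E' ≤ E :=
      hE.2 ⟨inferInstance, sup_le hEM (hle.trans inf_le_left), hsup⟩ le_sup_left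
    haveI : (E ⊓ Subgroup.centralizer (E : Set G)).Normal := Subgroup.normal_inf_normal _ _
    have hcyc := isCyclic_of_normal_comm hρ htrans (E ⊓ Subgroup.centralizer (E : Set G))
      (fun x hx y hy => hy.2 x hx.1)
    have hC' : E ⊓ Subgroup.centralizer (E : Set G) = C :=
      hmax _ inferInstance (le_inf hCE (hCX.trans inf_le_right)) hcyc
    exact hne' (le_antisymm (fun x hx => hC'.le ⟨heq (Subgroup.mem_sup_right hx), hEE' hx⟩) hCE')
  refine ⟨E, hEn, hCE, fun hle => hns fun g hg => hX ⟨hg, fun e he => hg e (hle he)⟩, hEM,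
    fun x hx y hy => hEd (Subgroup.commutator_mem_commutator hx hy), hX⟩

theorem arith_large {q m : ℕ} (hq : 3 ≤ q) (hm : 2 ≤ m)
    (h : q ^ (2 ^ (m - 1)) + 1 ≤ 2 * (2 ^ m + 1)) : m = 2 ∧ q = 3 := by
  rcases Nat.lt_or_ge m 3 with h3 | h3
  · have hm2 : m = 2 := by omega
    subst hm2
    norm_num at h
    refine ⟨rfl, ?_⟩
    by_contra hq4
    have := Nat.pow_le_pow_left (show 4 ≤ q by omega) 2
    norm_num at this
    omega
  · exfalso
    have h1 : 3 ^ (2 ^ (m - 1)) ≤ q ^ (2 ^ (m - 1)) := Nat.pow_le_pow_left hq _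
    have hgrow : ∀ k, 2 ≤ k → 2 * (2 ^ (k + 1) + 1) < 3 ^ (2 ^ k) + 1 := by
      intro k hk
      induction k, hk using Nat.le_induction with
      | base => norm_num
      | succ k hk ih =>
        have e : 3 ^ (2 ^ (k + 1)) = 3 ^ (2 ^ k) * 3 ^ (2 ^ k) := by
          rw [← pow_add]; ring_nf
        have hbig : 3 ≤ 3 ^ (2 ^ k) := Nat.le_self_pow (pow_ne_zero _ two_ne_zero) 3
        rw [e, pow_succ 2 (k + 1)]
        nlinarith
    have := hgrow (m - 1) (by omega)
    rw [show m - 1 + 1 = m by omega] at this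
    omega

set_option maxHeartbeats 1000000 in
/-- Huppert's theorem on solvable transitive linear groups. -/
theorem transitive_main (hρ : Function.Injective ρ) [Group.IsSolvable G]
    (htrans : ∀ v w : V, v ≠ 0 → w ≠ 0 → ∃ g : G, ρ g v = w) :
    (∃ (F : Type) (_ : Field F) (_ : Fintype F) (e : V ≃+ F),
        ∀ g : G, ∃ (a : F) (σ : F ≃+* F), ∀ v : V, e (ρ g v) = a * σ (e v)) ∨
      Nat.card V ∈ ({9, 25, 49, 121, 529, 81} : Set ℕ) := by
  classical
  obtain ⟨C, -, hCmax⟩ := Finite.exists_le_maximal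
    (p := fun K : Subgroup G => K.Normal ∧ IsCyclic K) (a := ⊥) ⟨inferInstance, inferInstance⟩
  haveI : C.Normal := hCmax.prop.1
  haveI : IsCyclic C := hCmax.prop.2
  have hmax : ∀ E : Subgroup G, E.Normal → C ≤ E → IsCyclic E → E = C := fun E hn hle hc =>
    le_antisymm (hCmax.2 ⟨hn, hc⟩ hle) hle
  by_cases hself : Subgroup.centralizer (C : Set G) ≤ C
  · exact Or.inl (semilinear_of_self_centralizing hρ htrans C hself)
  right
  have hCcomm : ∀ x ∈ C, ∀ y ∈ C, x * y = y * x := fun x hx y hy =>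
    congrArg Subtype.val (mul_comm' (⟨x, hx⟩ : C) ⟨y, hy⟩)
  obtain ⟨d, t, hd, ht, hV, hAq, hCd, ⟨f, hf⟩, hone⟩ := exists_field_data ρ hρ htrans C hCcomm
  obtain ⟨E, hEn, hCE, hEne, hEM, hder, hX⟩ := exists_class_two hρ htrans C hmax hself
  haveI := hEn
  have hrad : E ⊓ Subgroup.centralizer (E : Set G) ≤ C := fun x hx => hX ⟨hEM hx.1, hx.2⟩
  have hA2 := relIndex_le_sq hρ htrans C E hCcomm hEM hder hrad hd hAq hV
  have ht2 : 2 ≤ t := by
    by_contra h
    apply hEne
    intro x hx
    exact hrad ⟨hx, fun y hy => (hone (by omega)).2.1 y (hEM hy) x (hEM hx)⟩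
  obtain ⟨hn, hcomm, hrest⟩ := exists_pairing C E hder (fun c hc x hx => (hEM hx) c hc) hCE hrad
  haveI := hn
  letI : CommGroup (↥E ⧸ C.subgroupOf E) :=
    { (inferInstance : Group (↥E ⧸ C.subgroupOf E)) with mul_comm := hcomm }
  obtain ⟨j, hj, ω, hω, hval⟩ := hrest
  have hcardQ : Nat.card (↥E ⧸ C.subgroupOf E) = C.relIndex E := rfl
  have hQ1 : 1 < Nat.card (↥E ⧸ C.subgroupOf E) := by
    rw [hcardQ]
    rcases Nat.lt_or_ge 1 (C.relIndex E) with h | h
    · exact h
    · exfalso
      have : C.relIndex E = 1 := by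
        have hne : C.relIndex E ≠ 0 := Subgroup.index_ne_zero_of_finite
        omega
      exact hEne (Subgroup.relIndex_eq_one.mp this)
  have hQsq : IsSquare (Nat.card (↥E ⧸ C.subgroupOf E)) := by
    have := ω.isSquare_card ⊤ hω
    rwa [Subgroup.card_top] at this
  -- the action on `E / C`
  have hinv : ∀ (g : G), ∀ x ∈ C.subgroupOf E, (MulAut.conjNormal g : MulAut E) x ∈ C.subgroupOf E := by
    intro g x hx
    rw [Subgroup.mem_subgroupOf, MulAut.conjNormal_apply]
    exact (inferInstance : C.Normal).conj_mem _ hx g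
  let φ : G →* MulAut (↥E ⧸ C.subgroupOf E) := MonoidHom.mk'
    (fun g => QuotientGroup.congr (C.subgroupOf E) (C.subgroupOf E) (MulAut.conjNormal g) (by
      refine le_antisymm (Subgroup.map_le_iff_le_comap.mpr fun x hx => hinv g x hx) fun x hx => ?_
      refine ⟨MulAut.conjNormal g⁻¹ x, hinv g⁻¹ x hx, ?_⟩
      simp [mul_assoc]))
    (fun g h => MulEquiv.ext fun a => by
      obtain ⟨x, rfl⟩ := QuotientGroup.mk_surjective a
      simp [map_mul])
  have hφ : ∀ (g : G) (x : E), φ g (QuotientGroup.mk x) = QuotientGroup.mk (MulAut.conjNormal g x) :=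
    fun g x => rfl
  -- kernel inside `C_G(C)`
  have hker : ∀ g ∈ Subgroup.centralizer (C : Set G), φ g = 1 → g ∈ E := by
    intro g hg h1
    have hmem : ∀ x : E, ⁅g, (x : G)⁆ ∈ C := by
      intro x
      have h2 := MulEquiv.congr_fun h1 (QuotientGroup.mk x)
      rw [hφ, MulAut.one_apply, QuotientGroup.eq, Subgroup.mem_subgroupOf] at h2
      simp only [Subgroup.coe_mul, Subgroup.coe_inv, MulAut.conjNormal_apply] at h2
      have h3 := (inferInstance : C.Normal).conj_mem _ (inv_mem h2) x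
      rw [commutatorElement_def]
      simpa [mul_assoc] using h3
    -- the homomorphism `x ↦ ⁅g, x⁆`
    let χ0 : E →* ℂˣ := MonoidHom.mk' (fun x => j ⟨_, hmem x⟩) fun x y => by
      rw [← map_mul]
      refine congrArg j (Subtype.ext ?_)
      have h := (hEM x.2) _ (hmem y)
      show ⁅g, (x : G) * y⁆ = ⁅g, (x : G)⁆ * ⁅g, (y : G)⁆
      calc ⁅g, (x : G) * y⁆ = ⁅g, (x : G)⁆ * ((x : G) * ⁅g, (y : G)⁆ * (x : G)⁻¹) := by
            simp only [commutatorElement_def]; group
        _ = _ := by rw [← h, mul_inv_cancel_right]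
    let χ : (↥E ⧸ C.subgroupOf E) →* ℂˣ := QuotientGroup.lift (C.subgroupOf E) χ0 fun c hc => by
      show j _ = 1
      rw [← map_one j]
      refine congrArg j (Subtype.ext ?_)
      show ⁅g, (c : G)⁆ = 1
      rw [commutatorElement_eq_one_iff_mul_comm]
      exact (hg _ hc).symm
    haveI : NeZero (Monoid.exponent (↥E ⧸ C.subgroupOf E)) := ⟨Monoid.exponent_ne_zero_of_finite⟩
    have hch := CommGroup.card_monoidHom_of_hasEnoughRootsOfUnity (↥E ⧸ C.subgroupOf E) ℂ
    haveI : Finite ((↥E ⧸ C.subgroupOf E) →* ℂˣ) :=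
      Nat.finite_of_card_ne_zero (hch ▸ Nat.card_pos.ne')
    have hbij : Function.Bijective ω.toHom := by
      rw [Nat.bijective_iff_injective_and_card]
      refine ⟨(injective_iff_map_eq_one ω.toHom).mpr fun a ha => ?_, hch.symm⟩
      have : a ∈ (⊤ : Subgroup _) ⊓ ω.perp ⊤ :=
        ⟨Subgroup.mem_top _, fun b _ => by rw [ha, MonoidHom.one_apply]⟩
      rw [hω] at this
      exact Subgroup.mem_bot.mp this
    obtain ⟨a, ha⟩ := hbij.2 χ
    obtain ⟨e, rfl⟩ := QuotientGroup.mk_surjective a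
    have heg : (e : G)⁻¹ * g ∈ C := by
      refine hX ⟨(Subgroup.centralizer (C : Set G)).mul_mem
        ((Subgroup.centralizer (C : Set G)).inv_mem (hEM e.2)) hg, fun x hx => ?_⟩
      have h2 := DFunLike.congr_fun ha (QuotientGroup.mk ⟨x, hx⟩)
      rw [hval e ⟨x, hx⟩ (hder _ e.2 _ hx)] at h2
      have h3 : ⁅(e : G), x⁆ = ⁅g, x⁆ := congrArg Subtype.val (hj h2)
      rw [commutatorElement_def, commutatorElement_def, mul_left_inj] at h3
      show x * ((e : G)⁻¹ * g) = (e : G)⁻¹ * g * x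
      calc x * ((e : G)⁻¹ * g) = (e : G)⁻¹ * ((e : G) * x * (e : G)⁻¹) * g := by group
        _ = (e : G)⁻¹ * g * x := by rw [h3]; group
    have := mul_mem e.2 (hCE heg)
    rwa [mul_inv_cancel_left] at this
  have hM : Nat.card (Subgroup.centralizer (C : Set G)) ∣
      Nat.card E * Nat.card (φ.comp (Subgroup.centralizer (C : Set G)).subtype).range := by
    rw [← Subgroup.index_ker, ← Subgroup.card_mul_index
      (φ.comp (Subgroup.centralizer (C : Set G)).subtype).ker]
    refine Nat.mul_dvd_mul_right ?_ _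
    rw [← Subgroup.card_map_of_injective (f := (Subgroup.centralizer (C : Set G)).subtype)
      (Subgroup.subtype_injective _)]
    refine Subgroup.card_dvd_of_le ?_
    rintro _ ⟨x, hx, rfl⟩
    exact hker x x.2 hx
  have hEcard : Nat.card E = Nat.card C * Nat.card (↥E ⧸ C.subgroupOf E) := by
    rw [← Nat.card_congr (Subgroup.subgroupOfEquivOfLe hCE).toEquiv, mul_comm]
    exact Subgroup.card_eq_card_quotient_mul_card_subgroup _
  haveI : NeZero d := ⟨hd.ne'⟩
  have hrd : Nat.card f.range ∣ d := by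
    have := Subgroup.card_subgroup_dvd_card f.range
    rwa [Nat.card_congr Multiplicative.toAdd, Nat.card_zmod] at this
  have hG : Nat.card G = Nat.card (Subgroup.centralizer (C : Set G)) * Nat.card f.range := by
    rw [← Subgroup.index_ker, hf, Subgroup.card_mul_index]
  have hqt := card_sub_one_dvd htrans
  rw [hV] at hqt
  -- two-dimensional case
  by_cases htwo : t = 2
  · subst htwo
    obtain ⟨s, hs⟩ := hQsq
    have hs2 : s = 2 := by
      rw [hs] at hQ1
      have : s * s ≤ 2 * 2 := by rw [← hs, hcardQ]; exact hA2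
      have := Nat.mul_self_le_mul_self_iff.mp this
      rcases s with _ | _ | s <;> omega
    subst hs2
    have hAut : Nat.card (φ.comp (Subgroup.centralizer (C : Set G)).subtype).range ∣ 6 := by
      refine (Subgroup.card_subgroup_dvd_card _).trans ?_
      let X := {a : ↥E ⧸ C.subgroupOf E // a ≠ 1}
      let P : MulAut (↥E ⧸ C.subgroupOf E) →* Equiv.Perm X :=
        { toFun := fun σ => σ.toEquiv.subtypeEquiv fun a => by simp
          map_one' := by ext; rfl
          map_mul' := fun σ τ => by ext; rfl }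
      have hP : Function.Injective P := by
        intro σ τ h
        refine MulEquiv.ext fun a => ?_
        by_cases ha : a = 1
        · rw [ha, map_one, map_one]
        · exact congrArg Subtype.val (Equiv.congr_fun h ⟨a, ha⟩)
      refine (Subgroup.card_dvd_of_injective P hP).trans (dvd_of_eq ?_)
      haveI : Fintype (↥E ⧸ C.subgroupOf E) := Fintype.ofFinite _
      rw [Nat.card_perm, Nat.card_eq_fintype_card, Fintype.card_subtype_compl,
        Fintype.card_subtype_eq, ← Nat.card_eq_fintype_card, hs]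
      rfl
    have hq2 : ¬ 2 ∣ q := by
      intro h2
      have hq2' : q = 2 := ((Nat.prime_dvd_prime_iff_eq Nat.prime_two hq.out).mp h2).symm
      -- a value of the pairing of order two lies in `C`
      have h2C : 2 ∣ Nat.card C := by
        haveI := Fact.mk Nat.prime_two
        obtain ⟨a, ha⟩ := exists_prime_orderOf_dvd_card' (G := ↥E ⧸ C.subgroupOf E) 2 (hs ▸ ⟨2, rfl⟩)
        obtain ⟨b, hb⟩ : ∃ b, ω.toHom a b ≠ 1 := by
          by_contra h
          push Not at h
          have : a ∈ (⊤ : Subgroup _) ⊓ ω.perp ⊤ := ⟨Subgroup.mem_top _, fun b _ => h b⟩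
          rw [hω, Subgroup.mem_bot] at this
          rw [this, orderOf_one] at ha
          omega
        obtain ⟨x, rfl⟩ := QuotientGroup.mk_surjective a
        obtain ⟨y, rfl⟩ := QuotientGroup.mk_surjective b
        have hsq : ω.toHom (QuotientGroup.mk x) (QuotientGroup.mk y) ^ 2 = 1 := by
          rw [← MonoidHom.pow_apply, ← map_pow, ← ha, pow_orderOf_eq_one, map_one, MonoidHom.one_apply]
        rw [hval x y (hder _ x.2 _ y.2)] at hb hsq
        rw [← map_pow, ← map_one j] at hsq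
        have := orderOf_dvd_natCard (⟨_, hder _ x.2 _ y.2⟩ : C)
        rwa [orderOf_eq_prime (hj hsq) (fun h => hb (by rw [h, map_one]))] at this
      subst hq2'
      have h3 := h2C.trans hCd
      obtain ⟨k, rfl⟩ : ∃ k, d = k + 1 := ⟨d - 1, by omega⟩
      have : 0 < 2 ^ k := by positivity
      rw [pow_succ] at h3
      omega
    have hdiv : q ^ (d * 2) - 1 ∣ 24 * d * (q ^ d - 1) := by
      refine hqt.trans ?_
      rw [hG]
      refine (Nat.mul_dvd_mul hM hrd).trans ?_
      rw [hEcard, hs, show 24 * d * (q ^ d - 1) = (q ^ d - 1) * (2 * 2) * 6 * d by ring]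
      exact Nat.mul_dvd_mul (Nat.mul_dvd_mul (Nat.mul_dvd_mul hCd dvd_rfl) hAut) dvd_rfl
    have hq3 : 3 ≤ q := by
      have := hq.out.two_le
      by_contra h
      exact hq2 ⟨1, by omega⟩
    obtain ⟨rfl, -, hqs⟩ := arith_bound hq3 hq2 hd le_rfl hdiv
    rw [hV]
    rcases hqs with rfl | rfl | rfl | rfl | rfl <;> norm_num
  have ht3 : 3 ≤ t := by omega
  set n := d * t with hn
  have hn3 : 3 ≤ n := by
    have := Nat.mul_le_mul hd ht3
    omega
  -- consequences of a large prime
  have key : ∀ r : ℕ, r.Prime → r ∣ q ^ n - 1 → ¬ r ∣ q ^ d - 1 → n + 1 ≤ r →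
      d = 1 ∧ r = t + 1 ∧ Nat.card (↥E ⧸ C.subgroupOf E) = t * t ∧
        (2 ∣ t → ∀ a : ↥E ⧸ C.subgroupOf E, a ^ 2 = 1) ∧ ¬ r * r ∣ Nat.card G := by
    intro r hr hrq hrd' hrn
    haveI := Fact.mk hr
    have hdt : d + 2 ≤ n := by
      have := Nat.mul_le_mul_left d ht3
      omega
    have htn : t ≤ n := Nat.le_mul_of_pos_left t hd
    have hrC : ¬ r ∣ Nat.card C := fun h => hrd' (h.trans hCd)
    have hrQ : ¬ r ∣ Nat.card (↥E ⧸ C.subgroupOf E) := by
      intro h
      obtain ⟨s, hs⟩ := hQsq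
      have hst : s ≤ t := Nat.mul_self_le_mul_self_iff.mp (hs ▸ hcardQ ▸ hA2)
      have hrs : r ∣ s := by rcases hr.dvd_mul.mp (hs ▸ h) with h | h <;> exact h
      have hs0 : 0 < s := by
        rcases Nat.eq_zero_or_pos s with h0 | h0
        · rw [hs, h0] at hQ1; omega
        · exact h0
      have := Nat.le_of_dvd hs0 hrs
      omega
    obtain ⟨R⟩ : Nonempty (Sylow r G) := inferInstance
    have hrG : r ∣ Nat.card G := hrq.trans hqt
    have hRne : (R : Subgroup G) ≠ ⊥ := R.ne_bot_of_dvd_card hrG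
    have hRM : (R : Subgroup G) ≤ Subgroup.centralizer (C : Set G) := by
      rw [← hf]
      intro x hx
      rw [MonoidHom.mem_ker, ← orderOf_eq_one_iff]
      obtain ⟨k, hk⟩ := R.2 ⟨x, hx⟩
      have h1 : orderOf (f x) ∣ r ^ k := orderOf_dvd_of_pow_eq_one (by
        rw [← map_pow, show x ^ r ^ k = 1 from congrArg Subtype.val hk, map_one])
      have h2 : orderOf (f x) ∣ d := by
        have := orderOf_dvd_natCard (f x)
        rwa [Nat.card_congr Multiplicative.toAdd, Nat.card_zmod] at this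
      exact Nat.eq_one_of_dvd_coprimes ((hr.coprime_iff_not_dvd.mpr fun h => by
        have := Nat.le_of_dvd hd h; omega).pow_left k) h1 h2
    let P := (R : Subgroup G).map φ
    have hinj : Function.Injective (φ.subgroupMap (R : Subgroup G)) := by
      refine (injective_iff_map_eq_one _).mpr fun x hx => Subtype.ext ?_
      have hxE : (x : G) ∈ E := hker x (hRM x.2) (congrArg Subtype.val hx)
      rw [OneMemClass.coe_one, ← orderOf_eq_one_iff]
      obtain ⟨k, hk⟩ := R.2 x
      have h1 : orderOf (x : G) ∣ r ^ k := orderOf_dvd_of_pow_eq_one (congrArg Subtype.val hk)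
      have h2 : orderOf (x : G) ∣ Nat.card E := by
        have := orderOf_dvd_natCard (⟨x, hxE⟩ : E)
        rwa [← Subgroup.orderOf_coe] at this
      refine Nat.eq_one_of_dvd_coprimes ((hr.coprime_iff_not_dvd.mpr ?_).pow_left k) h1 h2
      rw [hEcard]
      intro h
      rcases hr.dvd_mul.mp h with h | h
      · exact hrC h
      · exact hrQ h
    have hPcard : Nat.card P = Nat.card (R : Subgroup G) :=
      (Nat.card_congr (Equiv.ofBijective _ ⟨hinj, φ.subgroupMap_surjective _⟩)).symm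
    have hPne : P ≠ ⊥ := fun h => hRne (Subgroup.card_eq_one.mp (by
      rw [← hPcard, h, Subgroup.card_bot]))
    obtain ⟨hrt, hQt, hPr, hsq⟩ := ω.prime_eq hω (ρ := r) (t := t) hr (by omega) (hcardQ ▸ hA2)
      (by omega) (R.2.map φ) hPne (by
        rintro _ ⟨g, hg, rfl⟩ a b
        obtain ⟨x, rfl⟩ := QuotientGroup.mk_surjective a
        obtain ⟨y, rfl⟩ := QuotientGroup.mk_surjective b
        rw [hφ, hφ, hval _ _ (hder _ (MulAut.conjNormal g x).2 _ (MulAut.conjNormal g y).2),
          hval x y (hder _ x.2 _ y.2)]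
        refine congrArg j (Subtype.ext ?_)
        show ⁅((MulAut.conjNormal g x : E) : G), ((MulAut.conjNormal g y : E) : G)⁆ = ⁅(x : G), (y : G)⁆
        have hc : (⁅(x : G), (y : G)⁆) * g = g * ⁅(x : G), (y : G)⁆ :=
          (hRM hg) _ (hder _ x.2 _ y.2)
        calc ⁅((MulAut.conjNormal g x : E) : G), ((MulAut.conjNormal g y : E) : G)⁆
            = g * ⁅(x : G), (y : G)⁆ * g⁻¹ := by
              simp only [MulAut.conjNormal_apply, commutatorElement_def]; group
          _ = _ := by rw [← hc, mul_inv_cancel_right])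
    refine ⟨?_, hrt, hQt, hsq, ?_⟩
    · by_contra hd1
      have := Nat.mul_le_mul_right t (show 2 ≤ d by omega)
      omega
    · intro h2
      have h3 : r ^ 2 ∣ Nat.card (R : Subgroup G) :=
        R.pow_dvd_card_of_pow_dvd_card (by rwa [pow_two])
      rw [← hPcard, hPr, pow_two] at h3
      have := Nat.le_of_dvd hr.pos h3
      nlinarith [hr.two_le]
  -- a first prime
  obtain ⟨r, hr, hrq, hrd', hrn, hrprim⟩ : ∃ r, r.Prime ∧ r ∣ q ^ n - 1 ∧ ¬ r ∣ q ^ d - 1 ∧
      n + 1 ≤ r ∧ True := by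
    by_cases h6 : q = 2 ∧ n = 6
    · obtain ⟨rfl, h6⟩ := h6
      have hd2 : d ≤ 2 := by
        by_contra h
        have := Nat.mul_le_mul (show 3 ≤ d by omega) ht3
        omega
      refine ⟨7, by norm_num, by rw [h6]; norm_num, ?_, by omega, trivial⟩
      interval_cases d <;> norm_num
    · obtain ⟨r, hr, hrn, hprim⟩ := CfsgLib.NumberTheory.exists_primitive_prime hq.out.one_lt
        (show 1 < n by omega) h6 (by omega)
      haveI := Fact.mk hr
      refine ⟨r, hr, hrn, hprim d hd (by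
        have := Nat.mul_le_mul_left d ht3
        omega), ?_, trivial⟩
      have hpow := (CfsgLib.NumberTheory.dvd_pow_sub_one_iff hq.out.pos).mp hrn
      have hne : (q : ZMod r) ≠ 0 := by
        intro h
        rw [h, zero_pow (by omega)] at hpow
        exact zero_ne_one hpow
      have hk := orderOf_dvd_of_pow_eq_one hpow
      have hlt := CfsgLib.NumberTheory.order_lt hne
      have hkn : orderOf (q : ZMod r) = n := by
        by_contra hne'
        have hle := Nat.le_of_dvd (by omega) hk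
        refine hprim _ (orderOf_pos_iff.mpr ?_) (by omega)
          ((CfsgLib.NumberTheory.dvd_pow_sub_one_iff hq.out.pos).mpr (pow_orderOf_eq_one _))
        exact isOfFinOrder_iff_pow_eq_one.mpr ⟨n, by omega, hpow⟩
      omega
  obtain ⟨hd1, hrt, hQt, hsq, hr2⟩ := key r hr hrq hrd' hrn
  subst hd1
  have hnt : n = t := one_mul t
  -- `t` is a power of two
  have hteven : 2 ∣ t := by
    have hodd := hr.odd_of_ne_two (by omega)
    rw [hrt] at hodd
    rcases Nat.even_or_odd t with h | h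
    · exact even_iff_two_dvd.mp h
    · exact absurd hodd (by simp [Nat.odd_add_one, h])
  have hexp2 := hsq hteven
  obtain ⟨k, hk⟩ := IsPGroup.iff_card.mp
    (show IsPGroup 2 (↥E ⧸ C.subgroupOf E) from fun a => ⟨1, by rw [pow_one]; exact hexp2 a⟩)
  haveI := Fact.mk Nat.prime_two
  obtain ⟨m, -, hm⟩ := (Nat.dvd_prime_pow Nat.prime_two).mp
    (show t ∣ 2 ^ k by rw [← hk, hQt]; exact dvd_mul_right t t)
  subst hm
  have hm2 : 2 ≤ m := by
    by_contra h
    interval_cases m <;> norm_num at ht3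
  -- `q` is odd
  have hq2 : ¬ 2 ∣ q := by
    intro h2
    have hq2' : q = 2 := ((Nat.prime_dvd_prime_iff_eq Nat.prime_two hq.out).mp h2).symm
    subst hq2'
    norm_num at hCd
    have hbot : C = ⊥ := hCd
    apply hEne
    intro x hx
    exact hrad ⟨hx, fun y hy => by
      have := hder y hy x hx
      rw [hbot, Subgroup.mem_bot, commutatorElement_eq_one_iff_mul_comm] at this
      exact this⟩
  have hq3 : 3 ≤ q := by
    have := hq.out.two_le
    by_contra h
    exact hq2 ⟨1, by omega⟩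
  set h := 2 ^ (m - 1) with hh
  have hn2 : n = h + h := by
    rw [hnt, hh, show 2 ^ m = 2 ^ (m - 1) * 2 by rw [← pow_succ]; congr 1; omega]
    ring
  have hN : q ^ h + 1 ∣ Nat.card G := by
    refine dvd_trans ?_ hqt
    refine ⟨q ^ h - 1, ?_⟩
    rw [hn2, pow_add]
    obtain ⟨y, hy⟩ : ∃ y, q ^ h = y + 1 := ⟨q ^ h - 1, by have := Nat.one_le_pow h q (by omega); omega⟩
    rw [hy, Nat.add_sub_cancel]
    have : (y + 1) * (y + 1) = (y + 1 + 1) * y + 1 := by ring
    omega
  have heven : Even h := by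
    rw [hh]; exact (Nat.even_pow).mpr ⟨even_two, by omega⟩
  -- every odd prime divisor of `q ^ h + 1` is `t + 1`
  have hodd : ∀ l : ℕ, l.Prime → l ∣ q ^ h + 1 → l = 2 ∨ l = r := by
    intro l hl hld
    by_cases hl2 : l = 2
    · exact Or.inl hl2
    right
    haveI := Fact.mk hl
    have hneg : (q : ZMod l) ^ h = -1 := by
      have := (ZMod.natCast_eq_zero_iff _ _).mpr hld
      push_cast at this
      exact eq_neg_of_add_eq_zero_left this
    have h1 : (q : ZMod l) ^ h ≠ 1 := by
      rw [hneg]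
      intro h'
      have h2' : ((2 : ℕ) : ZMod l) = 0 := by
        push_cast
        rw [show (2 : ZMod l) = 1 - (-1) by ring, h', sub_self]
      rw [ZMod.natCast_eq_zero_iff] at h2'
      exact hl2 ((Nat.prime_dvd_prime_iff_eq hl Nat.prime_two).mp h2')
    have hord : orderOf (q : ZMod l) = n := by
      rw [hnt, show m = m - 1 + 1 by omega]
      refine orderOf_eq_prime_pow (by rw [← hh]; exact h1) ?_
      rw [pow_succ, pow_mul, ← hh, hneg, neg_one_sq]
    have hln : n + 1 ≤ l := by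
      have hne : (q : ZMod l) ≠ 0 := by
        intro h0
        rw [h0, zero_pow (pow_ne_zero _ two_ne_zero)] at hneg
        exact one_ne_zero (neg_eq_zero.mp hneg.symm)
      have := CfsgLib.NumberTheory.order_lt hne
      omega
    have hlq : l ∣ q ^ n - 1 := by
      rw [CfsgLib.NumberTheory.dvd_pow_sub_one_iff hq.out.pos, ← hord]
      exact pow_orderOf_eq_one _
    have hld' : ¬ l ∣ q ^ 1 - 1 := by
      rw [CfsgLib.NumberTheory.dvd_pow_sub_one_iff hq.out.pos, pow_one]
      intro h0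
      exact h1 (by rw [h0, one_pow])
    obtain ⟨-, hlt, -⟩ := key l hl hlq hld' hln
    omega
  have hbound : q ^ h + 1 ≤ 2 * (2 ^ m + 1) := by
    have hdvd : q ^ h + 1 ∣ 2 * r := by
      rw [Nat.dvd_iff_prime_pow_dvd_dvd]
      intro l i hl hli
      rcases Nat.eq_zero_or_pos i with rfl | hi
      · simp
      have hld : l ∣ q ^ h + 1 := (dvd_pow_self l hi.ne').trans hli
      have hi1 : i = 1 := by
        by_contra hi2
        have h2i : l ^ 2 ∣ q ^ h + 1 := (pow_dvd_pow l (by omega)).trans hli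
        rcases hodd l hl hld with rfl | rfl
        · -- four does not divide an even square plus one
          obtain ⟨h', hh'⟩ := heven
          rw [hh'] at h2i
          have hqodd : q % 2 = 1 := Nat.two_dvd_ne_zero.mp hq2
          have hq4 : (q ^ (h' + h')) % 4 = 1 := by
            rw [← two_mul, pow_mul, Nat.pow_mod, Nat.pow_mod q 2 4]
            have : q % 4 = 1 ∨ q % 4 = 3 := by omega
            rcases this with e | e <;> simp [e]
          norm_num at h2i
          omega
        · exact hr2 (by rw [← pow_two]; exact h2i.trans hN)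
      rw [hi1, pow_one]
      rcases hodd l hl hld with rfl | rfl
      · exact dvd_mul_right 2 _
      · exact dvd_mul_left _ _
    have := Nat.le_of_dvd (by omega) hdvd
    omega
  obtain ⟨rfl, rfl⟩ := arith_large hq3 hm2 hbound
  rw [hV]
  norm_num

end CfsgLib.TransLinear
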