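import Cfsg.Agent.Lib.TransLinear.Transitive
import Cfsg.Agent.Lib.Transfer.Basic
import Cfsg.Agent.Lib.PSolvable.Core
import Cfsg.Agent.Lib.Signalizer.Setup

/-!
Solvable linear groups transitive on nonzero vectors whose point stabilizers are groups of the
defining characteristic: normal complement and abelian Sylow subgroups.
-/

set_option autoImplicit false
set_option linter.style.haveILetI false
set_option linter.unusedSectionVars false

namespace CfsgLib.TransLinear.PStab

open scoped commutatorElement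

variable {q : ℕ} [hq : Fact q.Prime] {V : Type*} [AddCommGroup V] [Module (ZMod q) V] [Finite V]
  [Nontrivial V] {H : Type*} [Group H] [Finite H] {ρ : H →* (V ≃ₗ[ZMod q] V)}

/-- Fixed points in a normal subgroup under conjugation by an element of order `r`. -/
theorem modEq_fixed {r : ℕ} [Fact r.Prime] {x : H} (hx : orderOf x = r) (R : Subgroup H)
    [R.Normal] :
    Nat.card R ≡ Nat.card (R ⊓ Subgroup.centralizer ({x} : Set H) : Subgroup H) [MOD r] := by
  have hP : IsPGroup r (Subgroup.zpowers x) :=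
    IsPGroup.of_card (n := 1) (by rw [Nat.card_zpowers, hx, pow_one])
  letI : MulAction (Subgroup.zpowers x) R :=
    MulAction.compHom R ((MulAut.toPerm R).comp
      ((MulAut.conjNormal (H := R)).comp (Subgroup.zpowers x).subtype))
  have hsmul : ∀ (u : Subgroup.zpowers x) (a : R), ((u • a : R) : H) = u * a * (u : H)⁻¹ :=
    fun u a => MulAut.conjNormal_apply _ _
  refine (hP.card_modEq_card_fixedPoints R).trans (congrArg (· % r) (Nat.card_congr ?_))
  refine
    { toFun := fun a => ⟨a.1.1, a.1.2, Subgroup.mem_centralizer_singleton_iff.mpr ?_⟩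
      invFun := fun c => ⟨⟨c.1, c.2.1⟩, fun u => ?_⟩
      left_inv := fun a => rfl
      right_inv := fun c => rfl }
  · have h := congrArg Subtype.val (a.2 ⟨x, Subgroup.mem_zpowers x⟩)
    rw [hsmul] at h
    calc (a.1.1 : H) * x = (x * a.1.1 * x⁻¹) * x := by rw [h]
      _ = x * a.1.1 := by group
  · obtain ⟨i, hi⟩ := Subgroup.mem_zpowers_iff.mp u.2
    apply Subtype.ext
    rw [hsmul, ← hi]
    have h : Commute (c.1) x := Subgroup.mem_centralizer_singleton_iff.mp c.2.2
    show x ^ i * c.1 * (x ^ i)⁻¹ = c.1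
    rw [((h.zpow_right i).symm).eq, mul_inv_cancel_right]

/-- An element of order three centralizing no more than it must in an abelian group with a unique
involution centralizes it. -/
theorem commute_of_abelian_two (R : Subgroup H) [R.Normal] (hR : IsPGroup 2 R)
    (hab : ∀ a ∈ R, ∀ b ∈ R, a * b = b * a)
    (huniq : ∀ a b : H, a * a = 1 → b * b = 1 → a ≠ 1 → b ≠ 1 → a = b)
    {x : H} (hx : orderOf x = 3) : ∀ a ∈ R, x * a = a * x := by
  suffices Hn : ∀ n : ℕ, ∀ a ∈ R, a ^ 2 ^ n = 1 → x * a = a * x by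
    intro a ha
    obtain ⟨n, hn⟩ := hR ⟨a, ha⟩
    exact Hn n a ha (congrArg Subtype.val hn)
  intro n
  induction n with
  | zero =>
    intro a _ h
    rw [pow_zero, pow_one] at h
    simp [h]
  | succ n ih =>
    intro a ha h
    have hsq := ih (a * a) (R.mul_mem ha ha) (by rw [← pow_two, ← pow_mul, ← pow_succ']; exact h)
    set b := x * a * x⁻¹ with hb
    have hbR : b ∈ R := ‹R.Normal›.conj_mem a ha x
    set t := a⁻¹ * b with ht
    have htR : t ∈ R := R.mul_mem (R.inv_mem ha) hbR
    have ht2 : t * t = 1 := by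
      have hbb : b * b = a * a := by
        calc b * b = x * (a * a) * x⁻¹ := by rw [hb]; group
          _ = a * a := by rw [hsq, mul_inv_cancel_right]
      calc t * t = a⁻¹ * (b * a⁻¹) * b := by rw [ht]; group
        _ = a⁻¹ * (a⁻¹ * b) * b := by rw [hab b hbR _ (R.inv_mem ha)]
        _ = a⁻¹ * a⁻¹ * (b * b) := by group
        _ = 1 := by rw [hbb]; group
    have htx : x * t * x⁻¹ = t := by
      by_cases h1 : t = 1
      · simp [h1]
      refine huniq _ _ ?_ ht2 (by simpa using h1) h1
      calc x * t * x⁻¹ * (x * t * x⁻¹) = x * (t * t) * x⁻¹ := by group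
        _ = 1 := by rw [ht2]; group
    have e1 : x * a * x⁻¹ = a * t := by rw [ht, hb]; group
    have e3 : a = a * (t * t) * t := by
      have h3 : x ^ 3 = 1 := hx ▸ pow_orderOf_eq_one x
      calc a = x ^ 3 * a * (x ^ 3)⁻¹ := by rw [h3]; group
        _ = x * (x * (x * a * x⁻¹) * x⁻¹) * x⁻¹ := by
          rw [pow_succ', pow_succ', pow_one]; group
        _ = x * ((x * a * x⁻¹) * (x * t * x⁻¹)) * x⁻¹ := by conv_lhs => rw [e1]
                                                            group
        _ = x * (a * (t * t)) * x⁻¹ := by rw [e1, htx, mul_assoc a t t]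
        _ = (x * a * x⁻¹) * ((x * t * x⁻¹) * (x * t * x⁻¹)) := by group
        _ = a * t * (t * t) := by rw [e1, htx]
        _ = a * (t * t) * t := by group
    rw [ht2, mul_one] at e3
    have ht1 : t = 1 := left_eq_mul.mp e3
    calc x * a = x * a * x⁻¹ * x := by group
      _ = a * x := by rw [e1, ht1, mul_one]

section Setting

variable (hρ : Function.Injective ρ) [Group.IsSolvable H]
  (htrans : ∀ v w : V, v ≠ 0 → w ≠ 0 → ∃ g : H, ρ g v = w)
  (hstab : ∀ v : V, v ≠ 0 → ∀ g : H, ρ g v = v → ∃ k : ℕ, g ^ q ^ k = 1)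
  (hcore : Cfsg.pCore q H = ⊥)

include hρ htrans hstab hcore

/-- An element of order prime to `q` fixing a nonzero vector is trivial. -/
theorem semiregular {g : H} (hg : (orderOf g).Coprime q) {v : V} (hv : v ≠ 0) (h : ρ g v = v) :
    g = 1 := by
  obtain ⟨k, hk⟩ := hstab v hv g h
  exact orderOf_eq_one_iff.mp ((hg.pow_right k).eq_one_of_dvd (orderOf_dvd_of_pow_eq_one hk))

theorem involution_eq_neg (hq2 : q ≠ 2) {t : H} (ht : t * t = 1) (ht1 : t ≠ 1) (v : V) :
    ρ t v = -v := by
  have hord : orderOf t = 2 := orderOf_eq_prime (by rw [pow_two, ht]) ht1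
  by_contra hne
  have hv : v + ρ t v ≠ 0 := fun e => hne (eq_neg_of_add_eq_zero_right e)
  refine ht1 (semiregular hρ htrans hstab hcore ?_ hv ?_)
  · rw [hord]
    exact Nat.coprime_two_left.mpr ((Fact.out : q.Prime).odd_of_ne_two hq2)
  · rw [map_add, ← LinearEquiv.mul_apply, ← map_mul, ht, map_one, add_comm]
    rfl

theorem involution_unique (hq2 : q ≠ 2) (a b : H) (ha : a * a = 1) (hb : b * b = 1) (ha1 : a ≠ 1)
    (hb1 : b ≠ 1) : a = b :=
  hρ (LinearEquiv.ext fun v => by
    rw [involution_eq_neg hρ htrans hstab hcore hq2 ha ha1,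
      involution_eq_neg hρ htrans hstab hcore hq2 hb hb1])

theorem involution_central (hq2 : q ≠ 2) {t : H} (ht : t * t = 1) (ht1 : t ≠ 1) (g : H) :
    g * t = t * g := by
  have h := involution_unique hρ htrans hstab hcore hq2 (g * t * g⁻¹) t
    (by calc g * t * g⁻¹ * (g * t * g⁻¹) = g * (t * t) * g⁻¹ := by group
          _ = 1 := by rw [ht]; group) ht (by simpa using ht1) ht1
  calc g * t = g * t * g⁻¹ * g := by group
    _ = t * g := by rw [h]

theorem exists_stab : ∃ (v : V) (S : Subgroup H), v ≠ 0 ∧ (∀ g, g ∈ S ↔ ρ g v = v) ∧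
    IsPGroup q S ∧ S.index = Nat.card V - 1 := by
  classical
  obtain ⟨v, hv⟩ := exists_ne (0 : V)
  let X := {w : V // w ≠ 0}
  letI : MulAction H X :=
    { smul := fun g x => ⟨ρ g x.1, (ρ g).map_ne_zero_iff.mpr x.2⟩
      one_smul := fun x => Subtype.ext (by show ρ 1 x.1 = x.1; rw [map_one]; rfl)
      mul_smul := fun g h x => Subtype.ext (by
        show ρ (g * h) x.1 = ρ g (ρ h x.1)
        rw [map_mul]; rfl) }
  haveI : MulAction.IsPretransitive H X := ⟨fun x y => by
    obtain ⟨g, hg⟩ := htrans x.1 y.1 x.2 y.2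
    exact ⟨g, Subtype.ext hg⟩⟩
  refine ⟨v, MulAction.stabilizer H (⟨v, hv⟩ : X), hv,
    fun g => ⟨fun h => congrArg Subtype.val h, fun h => Subtype.ext h⟩, fun g => ?_, ?_⟩
  · obtain ⟨k, hk⟩ := hstab v hv g.1 (congrArg Subtype.val g.2)
    exact ⟨k, Subtype.ext hk⟩
  · rw [MulAction.index_stabilizer_of_transitive]
    haveI := Fintype.ofFinite V
    rw [Nat.card_eq_fintype_card, Nat.card_eq_fintype_card, Fintype.card_subtype_compl,
      Fintype.card_subtype_eq]

theorem card_pow_dvd (n : ℕ) (hn : Nat.card V = q ^ n) {r : ℕ} (hr : r.Prime) (hrq : r ≠ q)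
    (R : Subgroup H) (hR : IsPGroup r R) : Nat.card R ∣ q ^ n - 1 := by
  obtain ⟨v, S, -, -, hS, hidx⟩ := exists_stab hρ htrans hstab hcore
  haveI := Fact.mk hr
  obtain ⟨j, hj⟩ := hR.exists_card_eq
  obtain ⟨k, hk⟩ := hS.exists_card_eq
  have h := Subgroup.card_subgroup_dvd_card R
  rw [← S.card_mul_index, hj, hk, hidx, hn] at h
  rw [hj]
  exact Nat.Coprime.dvd_of_dvd_mul_left
    (((Nat.coprime_primes hr (Fact.out)).mpr hrq).pow j k) h

/-- No nontrivial `q`-element centralizes all the cores at the other primes. -/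
theorem false_of_centralizes {x : H} (hx : orderOf x = q)
    (h : ∀ r : ℕ, r.Prime → r ≠ q → ∀ a ∈ Cfsg.pCore r H, x * a = a * x) : False := by
  have hF : Cfsg.fittingSubgroup H ≤ Subgroup.centralizer ({x} : Set H) := by
    refine CfsgLib.Signalizer.fittingSubgroup_le_of_pCore_le fun r hr a ha => ?_
    rw [Subgroup.mem_centralizer_singleton_iff]
    by_cases hrq : r = q
    · subst hrq
      rw [hcore, Subgroup.mem_bot] at ha
      simp [ha]
    · exact (h r hr hrq a ha).symm
  have hxF : x ∈ Cfsg.fittingSubgroup H := CfsgLib.PSolvable.centralizer_fittingSubgroup_le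
    (Subgroup.mem_centralizer_iff.mpr fun a ha =>
      Subgroup.mem_centralizer_singleton_iff.mp (hF ha))
  have hle : Cfsg.fittingSubgroup H ≤ Cfsg.pPrimeCore q H := by
    refine CfsgLib.Signalizer.fittingSubgroup_le_of_pCore_le fun r hr => ?_
    by_cases hrq : r = q
    · subst hrq; rw [hcore]; exact bot_le
    · haveI := Fact.mk hr
      haveI := CfsgLib.Fitting.pCore_normal (G := H) r
      refine CfsgLib.Transfer.le_pPrimeCore inferInstance ?_
      obtain ⟨j, hj⟩ := (CfsgLib.Fitting.pCore_isPGroup (G := H) r).exists_card_eq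
      rw [hj]
      exact ((Nat.coprime_primes hr (Fact.out)).mpr hrq).pow_left j
  have hdvd := Subgroup.orderOf_dvd_natCard (Cfsg.pPrimeCore q H) (hle hxF)
  rw [hx] at hdvd
  exact (Fact.out : q.Prime).coprime_iff_not_dvd.mp (CfsgLib.Transfer.pPrimeCore_coprime q).symm hdvd

theorem quaternion_contradiction (hq2 : q ≠ 2) (R : Subgroup H) {t : H} (ht : t * t = 1)
    (ht1 : t ≠ 1) (hsq : ∀ a ∈ R, a ≠ 1 → a ≠ t → a * a = t) (hcard : 16 ≤ Nat.card R)
    (htR : t ∈ R) : False := by
  classical
  have hc := fun g => involution_central hρ htrans hstab hcore hq2 ht ht1 g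
  have hout : ∀ s : Finset H, s.card < 16 → ∃ a ∈ R, a ∉ s := by
    intro s hs
    by_contra h
    push_neg at h
    have : Nat.card R ≤ s.card := by
      rw [← Nat.card_eq_finsetCard]
      exact Nat.card_le_card_of_injective (fun a : R => (⟨a.1, h a.1 a.2⟩ : s))
        fun a b e => by
          have := congrArg (fun z : s => (z : H)) e
          exact Subtype.ext this
    omega
  have hanti : ∀ u ∈ R, ∀ v ∈ R, u * u = t → v * v = t → u * v * (u * v) = t →
      v * u = u * v * t := by
    intro u _ v _ hu hv huv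
    have hu' : u⁻¹ = u * t := by
      rw [inv_eq_iff_mul_eq_one, ← mul_assoc, hu, ht]
    have hv' : v⁻¹ = v * t := by
      rw [inv_eq_iff_mul_eq_one, ← mul_assoc, hv, ht]
    calc v * u = u⁻¹ * (u * v * (u * v)) * v⁻¹ := by group
      _ = u * t * t * (v * t) := by rw [huv, hu', hv']
      _ = u * v * t := by rw [mul_assoc u t t, ht, mul_one, mul_assoc]
  obtain ⟨a, haR, ha⟩ := hout {1, t} (lt_of_le_of_lt Finset.card_le_two (by norm_num))
  obtain ⟨b, hbR, hb⟩ := hout {1, t, a, a * t}
    (lt_of_le_of_lt Finset.card_le_four (by norm_num))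
  obtain ⟨c, hcR, hc'⟩ := hout {1, t, a, a * t, b, b * t, a * b, a * b * t} (by
    refine lt_of_le_of_lt (le_trans (Finset.card_insert_le _ _) (Nat.add_le_add_right
      (le_trans (Finset.card_insert_le _ _) (Nat.add_le_add_right
        (le_trans (Finset.card_insert_le _ _) (Nat.add_le_add_right
          (le_trans (Finset.card_insert_le _ _) (Nat.add_le_add_right
            Finset.card_le_four 1)) 1)) 1)) 1)) (by norm_num))
  simp only [Finset.mem_insert, Finset.mem_singleton, not_or] at ha hb hc'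
  obtain ⟨ha1, hat⟩ := ha
  obtain ⟨hb1, hbt, hba, hbat⟩ := hb
  obtain ⟨hc1, hct, hca, hcat, hcb, hcbt, hcab, hcabt⟩ := hc'
  have hmul : ∀ u ∈ R, ∀ v ∈ R, u * u = t → v ≠ u * t → v ≠ u → u * v * (u * v) = t := by
    intro u hu v hv hu2 h1 h2
    refine hsq _ (R.mul_mem hu hv) (fun e => h1 ?_) fun e => h2 ?_
    · rw [eq_inv_of_mul_eq_one_right e, inv_eq_iff_mul_eq_one, ← mul_assoc, hu2, ht]
    · refine mul_left_cancel (a := u) ?_
      rw [e, hu2]
  have a2 := hsq a haR ha1 hat
  have b2 := hsq b hbR hb1 hbt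
  have c2 := hsq c hcR hc1 hct
  have ab2 := hmul a haR b hbR a2 hbat hba
  have eca := hanti a haR c hcR a2 c2 (hmul a haR c hcR a2 hcat hca)
  have ecb := hanti b hbR c hcR b2 c2 (hmul b hbR c hcR b2 hcbt hcb)
  have ecab := hanti (a * b) (R.mul_mem haR hbR) c hcR ab2 c2
    (hmul (a * b) (R.mul_mem haR hbR) c hcR ab2 hcabt hcab)
  have e : c * (a * b) = a * b * c := by
    calc c * (a * b) = (c * a) * b := by group
      _ = a * c * t * b := by rw [eca]
      _ = a * (c * b) * t := by rw [mul_assoc (a * c) t b, ← hc b]; group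
      _ = a * b * c * (t * t) := by rw [ecb]; group
      _ = a * b * c := by rw [ht, mul_one]
  rw [e] at ecab
  exact ht1 (left_eq_mul.mp ecab)

theorem core_two_dim (hn : Nat.card V = q ^ 2) (hq2 : q ≠ 2) {x : H} (hx : orderOf x = q) :
    q = 3 ∧ Nat.card (Cfsg.pCore 2 H) = 8 := by
  have hqp : q.Prime := Fact.out
  have hq3 : 3 ≤ q := by have := hqp.two_le; omega
  have hodd := Nat.odd_iff.mp (hqp.odd_of_ne_two hq2)
  by_contra hno
  refine false_of_centralizes hρ htrans hstab hcore hx fun r hr hrq => ?_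
  haveI := Fact.mk hr
  haveI := CfsgLib.Fitting.pCore_normal (G := H) r
  set R := Cfsg.pCore r H
  have hRp : IsPGroup r R := CfsgLib.Fitting.pCore_isPGroup r
  obtain ⟨j, hj⟩ := hRp.exists_card_eq
  have hdvd := card_pow_dvd hρ htrans hstab hcore 2 hn hr hrq R hRp
  rw [hj] at hdvd
  set C := R ⊓ Subgroup.centralizer ({x} : Set H) with hC
  obtain ⟨i, hij, hi⟩ := (Nat.dvd_prime_pow hr).mp (hj ▸ Subgroup.card_dvd_of_le (inf_le_left : C ≤ R))
  have hmod := modEq_fixed hx R
  rw [hj, ← hC, hi] at hmod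
  have hdone : i = j → ∀ a ∈ R, x * a = a * x := by
    intro e a ha
    have : C = R := Subgroup.eq_of_le_of_card_ge inf_le_left (by rw [hj, hi, e])
    rw [← this] at ha
    exact (Subgroup.mem_centralizer_singleton_iff.mp ha.2).symm
  by_cases hr2 : r = 2
  swap
  · refine hdone ?_
    have hprod : (q + 1) * (q - 1) = q ^ 2 - 1 := by
      rw [← Nat.sq_sub_sq, one_pow]
    have hdiv : r ^ j ∣ q + 1 ∨ r ^ j ∣ q - 1 := by
      by_cases h : r ∣ q + 1
      · left
        refine Nat.Coprime.dvd_of_dvd_mul_right ?_ (hprod.symm ▸ hdvd)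
        refine (hr.coprime_iff_not_dvd.mpr fun h' => hr2 ?_).pow_left j
        have := Nat.dvd_sub h h'
        rw [show q + 1 - (q - 1) = 2 by omega] at this
        exact (Nat.prime_dvd_prime_iff_eq hr Nat.prime_two).mp this
      · right
        exact Nat.Coprime.dvd_of_dvd_mul_left ((hr.coprime_iff_not_dvd.mpr h).pow_left j)
          (hprod.symm ▸ hdvd)
    have hlt : r ^ j < q := by
      rcases hdiv with h | h
      · obtain ⟨c, hc⟩ := h
        have hne : r ^ j % 2 = 1 := by
          rw [Nat.pow_mod, Nat.odd_iff.mp (hr.odd_of_ne_two hr2), one_pow]; norm_num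
        have hc2 : 2 ≤ c := by
          rcases c with _ | _ | c
          · omega
          · omega
          · omega
        nlinarith
      · have := Nat.le_of_dvd (by omega) h; omega
    have hle : r ^ i ≤ r ^ j := Nat.pow_le_pow_right hr.pos hij
    exact Nat.pow_right_injective hr.two_le
      (Nat.ModEq.eq_of_lt_of_lt hmod hlt (lt_of_le_of_lt hle hlt)).symm
  subst hr2
  by_contra hcent
  have hij' : i < j := lt_of_le_of_ne hij fun e => hcent (hdone e)
  obtain ⟨⟨t, htR⟩, ht⟩ := exists_prime_orderOf_dvd_card' (G := R) 2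
    (hj ▸ dvd_pow_self 2 (by omega))
  rw [Subgroup.orderOf_mk] at ht
  have ht1 : t ≠ 1 := fun e => by rw [e, orderOf_one] at ht; omega
  have ht2 : t * t = 1 := by rw [← pow_two, ← ht]; exact pow_orderOf_eq_one t
  have htc := fun g => involution_central hρ htrans hstab hcore hq2 ht2 ht1 g
  have htC : t ∈ C := ⟨htR, Subgroup.mem_centralizer_singleton_iff.mpr (htc x).symm⟩
  have hi1 : 1 ≤ i := by
    have h2 : 2 ∣ 2 ^ i := hi ▸ ht ▸ Subgroup.orderOf_dvd_natCard C htC
    rcases i with _ | i
    · simp at h2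
    · omega
  have hj2 : 2 ^ j ≤ 2 * (q + 1) := by
    have hprod : (q + 1) * (q - 1) = q ^ 2 - 1 := by rw [← Nat.sq_sub_sq, one_pow]
    rcases j with _ | j
    · omega
    have h4 : ∀ a b : ℕ, a % 4 = 2 → 2 ^ (j + 1) ∣ a * b → 2 ^ (j + 1) ∣ 2 * b := by
      intro a b ha h
      obtain ⟨a', rfl⟩ : ∃ a', a = 2 * a' := ⟨a / 2, by omega⟩
      rw [mul_comm 2 a', mul_assoc] at h
      exact ((Nat.prime_two.coprime_iff_not_dvd.mpr (by omega)).pow_left _).dvd_of_dvd_mul_left h
    rcases (by omega : (q + 1) % 4 = 2 ∨ (q - 1) % 4 = 2) with h | h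
    · have := Nat.le_of_dvd (by omega) (h4 _ _ h (hprod.symm ▸ hdvd))
      omega
    · exact Nat.le_of_dvd (by omega) (h4 _ _ h (by rw [mul_comm, hprod]; exact hdvd))
  obtain ⟨d, rfl⟩ : ∃ d, j = i + d := ⟨j - i, by omega⟩
  have hqd : q + 1 ≤ 2 ^ d := by
    have h1 : q ∣ 2 ^ (i + d) - 2 ^ i :=
      (Nat.modEq_iff_dvd' (Nat.pow_le_pow_right (by norm_num) hij)).mp hmod.symm
    rw [pow_add, show 2 ^ i * 2 ^ d - 2 ^ i = 2 ^ i * (2 ^ d - 1) by rw [Nat.mul_sub, mul_one]] at h1
    have h2 := ((hqp.coprime_iff_not_dvd.mpr fun h =>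
      hq2 ((Nat.prime_dvd_prime_iff_eq hqp Nat.prime_two).mp h)).pow_right i).dvd_of_dvd_mul_left h1
    have h3 := Nat.le_of_dvd (by have := Nat.one_lt_two_pow (show d ≠ 0 by omega); omega) h2
    omega
  rw [pow_add] at hj2
  have hi2 : 2 ^ i = 2 := by
    have h1 : 2 ≤ 2 ^ i := le_trans (by norm_num) (Nat.pow_le_pow_right (by norm_num) hi1)
    nlinarith
  have hd : 2 ^ d = q + 1 := by nlinarith
  have hcardR : Nat.card R = 2 * (q + 1) := by rw [hj, pow_add, hi2, hd]
  by_cases hq3' : q = 3
  · exact hno ⟨hq3', by rw [hcardR, hq3']⟩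
  -- all elements outside the fixed subgroup square to the involution
  have hcC : Nat.card C = 2 := hi.trans hi2
  have hCeq : ∀ c ∈ C, c = 1 ∨ c = t := by
    intro c hc
    by_contra h
    push_neg at h
    haveI := Fintype.ofFinite C
    have : 3 ≤ Nat.card C := by
      rw [Nat.card_eq_fintype_card]
      refine Fintype.two_lt_card_iff.mpr ⟨1, ⟨t, htC⟩, ⟨c, hc⟩, ?_, ?_, ?_⟩
      · exact fun e => ht1 (congrArg Subtype.val e).symm
      · exact fun e => h.1 (congrArg Subtype.val e).symm
      · exact fun e => h.2 (congrArg Subtype.val e).symm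
    omega
  have h1C : ∀ a : H, a = 1 ∨ a = t → a ∈ C := by
    rintro a (rfl | rfl)
    · exact C.one_mem
    · exact htC
  obtain ⟨b, hbR, hb1, hbt, hb2⟩ : ∃ b ∈ R, b ≠ 1 ∧ b ≠ t ∧ b * b = t := by
    have hcardC : Nat.card C = 2 := by rw [hi, hi2]
    obtain ⟨a, haR, haC⟩ := SetLike.exists_of_lt (lt_of_le_of_ne (inf_le_left : C ≤ R)
      fun e => by
        have : C = R := e
        rw [this, hcardR] at hcardC; omega)
    obtain ⟨k, hk⟩ := hRp ⟨a, haR⟩
    have hk' : a ^ 2 ^ k = 1 := congrArg Subtype.val hk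
    clear hk
    induction k generalizing a with
    | zero =>
      rw [pow_zero, pow_one] at hk'
      exact absurd (h1C a (Or.inl hk')) haC
    | succ k ih =>
      rcases em (a * a = 1 ∨ a * a = t) with (h | h) | h
      · exact absurd (h1C a (Or.inr (involution_unique hρ htrans hstab hcore hq2 a t h ht2
          (fun e => haC (h1C a (Or.inl e))) ht1))) haC
      · exact ⟨a, haR, fun e => haC (h1C a (Or.inl e)), fun e => haC (h1C a (Or.inr e)), h⟩
      · exact ih (a * a) (R.mul_mem haR haR) (fun hm => h (hCeq _ hm))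
          (by rw [← pow_two, ← pow_mul, ← pow_succ']; exact hk')
  let f : Fin q × Fin 2 ⊕ Fin 2 → R := Sum.elim
    (fun y : Fin q × Fin 2 => ⟨x ^ (y.1 : ℕ) * b * (x ^ (y.1 : ℕ))⁻¹ * t ^ (y.2 : ℕ),
      R.mul_mem (‹R.Normal›.conj_mem b hbR _) (R.pow_mem htR _)⟩)
    (fun y : Fin 2 => ⟨t ^ (y : ℕ), R.pow_mem htR _⟩)
  have hfix : ∀ m : ℕ, ∀ s : H, (s = 1 ∨ s = t) → x ^ m * b * (x ^ m)⁻¹ = b * s → q ∣ m := by
    intro m s hs he
    by_contra hqm
    have hs2 : s * s = 1 := by rcases hs with rfl | rfl <;> simp [ht2]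
    have hsc : ∀ g, g * s = s * g := by
      rcases hs with rfl | rfl
      · simp
      · exact htc
    have hpow : ∀ k : ℕ, (x ^ m) ^ k * b * ((x ^ m) ^ k)⁻¹ = b * s ^ k := by
      intro k
      induction k with
      | zero => simp
      | succ k ih =>
        calc (x ^ m) ^ (k + 1) * b * ((x ^ m) ^ (k + 1))⁻¹
            = x ^ m * ((x ^ m) ^ k * b * ((x ^ m) ^ k)⁻¹) * (x ^ m)⁻¹ := by rw [pow_succ']; group
          _ = x ^ m * b * (x ^ m)⁻¹ * (x ^ m * s ^ k * (x ^ m)⁻¹) := by rw [ih]; group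
          _ = b * s * s ^ k := by
            rw [he, ((Commute.pow_right (hsc (x ^ m) : Commute (x ^ m) s) k)).eq,
              mul_inv_cancel_right]
          _ = b * s ^ (k + 1) := by rw [pow_succ', mul_assoc]
    have hxq := hpow q
    rw [← pow_mul, mul_comm m q, pow_mul, ← hx, pow_orderOf_eq_one, one_pow, one_mul, inv_one,
      mul_one, left_eq_mul, hx] at hxq
    have hs1 : s = 1 := by
      rw [← Nat.div_add_mod q 2, hodd, pow_add, pow_mul, pow_two, hs2, one_pow, one_mul,
        pow_one] at hxq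
      exact hxq
    rw [hs1, mul_one] at he
    have hbx : Commute b x := by
      obtain ⟨u, hu⟩ := exists_pow_eq_self_of_coprime (x := x) (n := m)
        (hx ▸ (hqp.coprime_iff_not_dvd.mpr hqm).symm)
      have : Commute b (x ^ m) := by
        show b * x ^ m = x ^ m * b
        calc b * x ^ m = x ^ m * b * (x ^ m)⁻¹ * x ^ m := by rw [he]
          _ = x ^ m * b := by group
      exact hu ▸ this.pow_right u
    rcases hCeq b ⟨hbR, Subgroup.mem_centralizer_singleton_iff.mpr hbx.eq⟩ with e | e
    · exact hb1 e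
    · exact hbt e
  have hfinj : Function.Injective f := by
    have key : ∀ (k : ℕ) (s s' : ℕ), s < 2 → s' < 2 → t ^ s = t ^ s' → s = s' := by
      intro k s s' hs hs' e
      interval_cases s <;> interval_cases s' <;> simp_all
    have hpw : ∀ s : ℕ, t ^ s = 1 ∨ t ^ s = t := by
      intro s
      rw [← Nat.div_add_mod s 2, pow_add, pow_mul, pow_two, ht2, one_pow, one_mul]
      rcases Nat.mod_two_eq_zero_or_one s with h | h <;> simp [h]
    have hout : ∀ (k : ℕ) (s : H), (s = 1 ∨ s = t) → x ^ k * b * (x ^ k)⁻¹ ≠ s := by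
      intro k s hs e
      have e' : b = (x ^ k)⁻¹ * s * x ^ k := by rw [← e]; group
      rcases hs with rfl | rfl
      · exact hb1 (by rw [e']; group)
      · exact hbt (by rw [e', mul_assoc, ← htc (x ^ k), inv_mul_cancel_left])
    rintro (⟨k, s⟩ | s) (⟨k', s'⟩ | s') e <;> have e := congrArg Subtype.val e <;>
      simp only [f, Sum.elim_inl, Sum.elim_inr] at e
    · have hkk : (k : ℕ) = k' := by
        rcases le_total (k : ℕ) k' with h | h
        · obtain ⟨m, hm⟩ := Nat.exists_eq_add_of_le h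
          have h2 : x ^ m * b * (x ^ m)⁻¹ = b * (t ^ (s : ℕ) * (t ^ (s' : ℕ))⁻¹) := by
            calc x ^ m * b * (x ^ m)⁻¹ = (x ^ (k : ℕ))⁻¹ *
                ((x ^ (k' : ℕ) * b * (x ^ (k' : ℕ))⁻¹ * t ^ (s' : ℕ)) * (t ^ (s' : ℕ))⁻¹) * x ^ (k : ℕ) := by
                  rw [hm, pow_add]; group
              _ = b * ((x ^ (k : ℕ))⁻¹ * (t ^ (s : ℕ) * (t ^ (s' : ℕ))⁻¹) * x ^ (k : ℕ)) := by
                  rw [← e]; group
              _ = b * (t ^ (s : ℕ) * (t ^ (s' : ℕ))⁻¹) := by
                  have hc : Commute (x ^ (k : ℕ)) (t ^ (s : ℕ) * (t ^ (s' : ℕ))⁻¹) :=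
                    ((Commute.pow_right (htc _) _).mul_right (Commute.pow_right (htc _) _).inv_right)
                  rw [mul_assoc _ _ (x ^ (k : ℕ)), ← hc.eq, inv_mul_cancel_left]
          have h3 := hfix m _ (by
            rcases hpw (s : ℕ) with a | a <;> rcases hpw (s' : ℕ) with c | c <;> rw [a, c] <;>
              simp [inv_eq_of_mul_eq_one_right ht2, ht2]) h2
          have := Nat.eq_zero_of_dvd_of_lt h3 (by omega)
          omega
        · obtain ⟨m, hm⟩ := Nat.exists_eq_add_of_le h
          have h2 : x ^ m * b * (x ^ m)⁻¹ = b * (t ^ (s' : ℕ) * (t ^ (s : ℕ))⁻¹) := by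
            calc x ^ m * b * (x ^ m)⁻¹ = (x ^ (k' : ℕ))⁻¹ *
                ((x ^ (k : ℕ) * b * (x ^ (k : ℕ))⁻¹ * t ^ (s : ℕ)) * (t ^ (s : ℕ))⁻¹) * x ^ (k' : ℕ) := by
                  rw [hm, pow_add]; group
              _ = b * ((x ^ (k' : ℕ))⁻¹ * (t ^ (s' : ℕ) * (t ^ (s : ℕ))⁻¹) * x ^ (k' : ℕ)) := by
                  rw [e]; group
              _ = b * (t ^ (s' : ℕ) * (t ^ (s : ℕ))⁻¹) := by
                  have hc : Commute (x ^ (k' : ℕ)) (t ^ (s' : ℕ) * (t ^ (s : ℕ))⁻¹) :=
                    ((Commute.pow_right (htc _) _).mul_right (Commute.pow_right (htc _) _).inv_right)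
                  rw [mul_assoc _ _ (x ^ (k' : ℕ)), ← hc.eq, inv_mul_cancel_left]
          have h3 := hfix m _ (by
            rcases hpw (s : ℕ) with a | a <;> rcases hpw (s' : ℕ) with c | c <;> rw [a, c] <;>
              simp [inv_eq_of_mul_eq_one_right ht2, ht2]) h2
          have := Nat.eq_zero_of_dvd_of_lt h3 (by omega)
          omega
      rw [hkk] at e
      have := key 0 _ _ s.isLt s'.isLt (mul_left_cancel e)
      exact congrArg Sum.inl (Prod.ext (Fin.ext hkk) (Fin.ext this))
    · exfalso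
      rcases hpw (s : ℕ) with a | a <;> rcases hpw (s' : ℕ) with c | c <;> rw [a, c] at e
      · exact hout k 1 (Or.inl rfl) (by simpa using e)
      · exact hout k t (Or.inr rfl) (by simpa using e)
      · exact hout k t (Or.inr rfl) (by
          rw [eq_inv_of_mul_eq_one_left e, inv_eq_of_mul_eq_one_right ht2])
      · exact hout k 1 (Or.inl rfl) (by simpa using e)
    · exfalso
      rcases hpw (s : ℕ) with a | a <;> rcases hpw (s' : ℕ) with c | c <;> rw [a, c] at e
      · exact hout k' 1 (Or.inl rfl) (by simpa using e.symm)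
      · exact hout k' t (Or.inr rfl) (by
          rw [eq_inv_of_mul_eq_one_left e.symm, inv_eq_of_mul_eq_one_right ht2])
      · exact hout k' t (Or.inr rfl) (by simpa using e.symm)
      · exact hout k' 1 (Or.inl rfl) (by simpa using e.symm)
    · exact congrArg Sum.inr (Fin.ext (key 0 _ _ s.isLt s'.isLt e))
  have hbij := (Nat.bijective_iff_injective_and_card f).mpr ⟨hfinj, by
    rw [hcardR, Nat.card_sum, Nat.card_prod, Nat.card_fin, Nat.card_fin]; ring⟩
  refine quaternion_contradiction hρ htrans hstab hcore hq2 R ht2 ht1 (fun a haR ha1 hat => ?_)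
    ?_ htR
  · obtain ⟨z, hz⟩ := hbij.2 ⟨a, haR⟩
    have hz' := congrArg Subtype.val hz
    rcases z with ⟨k, s⟩ | s <;> simp only [f, Sum.elim_inl, Sum.elim_inr] at hz'
    · rw [← hz']
      set u := x ^ (k : ℕ) * b * (x ^ (k : ℕ))⁻¹
      have hu : u * u = t := by
        calc u * u = x ^ (k : ℕ) * (b * b) * (x ^ (k : ℕ))⁻¹ := by simp only [u]; group
          _ = t := by rw [hb2, htc, mul_inv_cancel_right]
      calc u * t ^ (s : ℕ) * (u * t ^ (s : ℕ)) = (u * u) * (t * t) ^ (s : ℕ) := by
            rw [Commute.mul_pow (Commute.refl t)]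
            have hc : Commute (t ^ (s : ℕ)) u := (Commute.pow_right (htc u) _).symm
            rw [mul_assoc u, ← mul_assoc (t ^ (s : ℕ)) u, hc.eq]; group
        _ = t := by rw [hu, ht2, one_pow, mul_one]
    · exfalso
      rcases (by omega : (s : ℕ) = 0 ∨ (s : ℕ) = 1) with h | h <;> rw [h] at hz'
      · exact ha1 (by simpa using hz'.symm)
      · exact hat (by simpa using hz'.symm)
  · rw [hcardR]
    have hq5 : q ≠ 5 := fun h5 => by
      rw [h5] at hd
      have : 2 ^ d < 8 := by omega
      have hd3 : d < 3 := (Nat.pow_lt_pow_iff_right (by norm_num)).mp this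
      interval_cases d <;> simp_all
    omega

theorem commute_of_order_five (hq3 : q = 3) (hn : Nat.card V = 81) {z : H} (hz : orderOf z = 5)
    {c c' : H} (hc : Commute c z) (hc' : Commute c' z) : c * c' = c' * c := by
  classical
  obtain ⟨v, hv⟩ := exists_ne (0 : V)
  set W := AddSubgroup.closure (Set.range fun i : ℕ => ρ (z ^ i) v)
  have hWz : ∀ w ∈ W, ρ z w ∈ W := by
    intro w hw
    induction hw using AddSubgroup.closure_induction with
    | mem w h =>
      obtain ⟨i, rfl⟩ := h
      exact AddSubgroup.subset_closure ⟨i + 1, by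
        show ρ (z ^ (i + 1)) v = ρ z (ρ (z ^ i) v)
        rw [← LinearEquiv.mul_apply, ← map_mul, ← pow_succ']⟩
    | zero => simp
    | add a b _ _ ha hb => rw [map_add]; exact W.add_mem ha hb
    | neg a _ ha => rw [map_neg]; exact W.neg_mem ha
  have hWpow : ∀ (k : ℕ), ∀ w ∈ W, ρ (z ^ k) w ∈ W := by
    intro k
    induction k with
    | zero => intro w hw; rw [pow_zero, map_one]; exact hw
    | succ k ih =>
      intro w hw
      rw [pow_succ', map_mul, LinearEquiv.mul_apply]
      exact hWz _ (ih w hw)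
  haveI : Fact (Nat.Prime 5) := ⟨by norm_num⟩
  have hz1 : z ≠ 1 := fun e => by rw [e, orderOf_one] at hz; omega
  have hW : W = ⊤ := by
    letI : SMul (Subgroup.zpowers z) W := ⟨fun u w => ⟨ρ (u : H) w, by
      obtain ⟨k, hk⟩ := (mem_powers_iff_mem_zpowers (x := z) (y := (u : H))).mpr u.2
      rw [← hk]; exact hWpow k _ w.2⟩⟩
    letI : MulAction (Subgroup.zpowers z) W :=
      { one_smul := fun w => Subtype.ext (by show ρ (1 : H) w = w; rw [map_one]; rfl)
        mul_smul := fun a b w => Subtype.ext (by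
          show ρ ((a : H) * b) w = ρ (a : H) (ρ (b : H) w)
          rw [map_mul]; rfl) }
    have hP : IsPGroup 5 (Subgroup.zpowers z) :=
      IsPGroup.of_card (n := 1) (by rw [Nat.card_zpowers, hz, pow_one])
    have hm := hP.card_modEq_card_fixedPoints W
    have hfix : Nat.card (MulAction.fixedPoints (Subgroup.zpowers z) W) = 1 := by
      rw [Nat.card_eq_one_iff_unique]
      refine ⟨⟨fun a b => ?_⟩, ⟨⟨0, fun u => Subtype.ext (map_zero (ρ (u : H)))⟩⟩⟩
      have : ∀ a : MulAction.fixedPoints (Subgroup.zpowers z) W, a.1.1 = 0 := by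
        intro a
        by_contra h
        exact hz1 (semiregular hρ htrans hstab hcore (by rw [hz, hq3]; decide) h
          (congrArg Subtype.val (a.2 ⟨z, Subgroup.mem_zpowers z⟩)))
      exact Subtype.ext (Subtype.ext ((this a).trans (this b).symm))
    rw [hfix] at hm
    have hdvd : Nat.card W ∣ 3 ^ 4 := by
      rw [show (3 : ℕ) ^ 4 = Nat.card V by rw [hn]; norm_num]
      exact AddSubgroup.card_addSubgroup_dvd_card W
    obtain ⟨k, hk, hWk⟩ := (Nat.dvd_prime_pow Nat.prime_three).mp hdvd
    have hne : Nat.card W ≠ 1 := by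
      intro e
      have : v ∈ W := AddSubgroup.subset_closure ⟨0, by simp⟩
      rw [AddSubgroup.card_eq_one.mp e, AddSubgroup.mem_bot] at this
      exact hv this
    rw [hWk] at hm hne
    have : k = 4 := by
      interval_cases k <;> simp_all [Nat.ModEq]
    exact AddSubgroup.eq_top_of_card_eq _ (by rw [hWk, this, hn]; norm_num)
  have hgood : ∀ w ∈ W, ∃ P : AddMonoid.End V, P v = w ∧
      ∀ d : H, Commute d z → ∀ u, P (ρ d u) = ρ d (P u) := by
    intro w hw
    induction hw using AddSubgroup.closure_induction with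
    | mem w h =>
      obtain ⟨i, rfl⟩ := h
      refine ⟨(ρ (z ^ i)).toAddMonoidHom, rfl, fun d hd u => ?_⟩
      show ρ (z ^ i) (ρ d u) = ρ d (ρ (z ^ i) u)
      rw [← LinearEquiv.mul_apply, ← LinearEquiv.mul_apply, ← map_mul, ← map_mul,
        (hd.pow_right i).eq]
    | zero => exact ⟨0, rfl, fun d _ u => (map_zero (ρ d)).symm⟩
    | add a b _ _ ha hb =>
      obtain ⟨P, hP, hP'⟩ := ha
      obtain ⟨Q, hQ, hQ'⟩ := hb
      refine ⟨P + Q, by show P v + Q v = _; rw [hP, hQ], fun d hd u => ?_⟩
      show P (ρ d u) + Q (ρ d u) = ρ d (P u + Q u)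
      rw [map_add, hP' d hd, hQ' d hd]
    | neg a _ ha =>
      obtain ⟨P, hP, hP'⟩ := ha
      refine ⟨-P, by show -(P v) = _; rw [hP], fun d hd u => ?_⟩
      show -(P (ρ d u)) = ρ d (-(P u))
      rw [map_neg, hP' d hd]
  obtain ⟨P, hP, hP'⟩ := hgood (ρ c' v) (hW ▸ AddSubgroup.mem_top _)
  obtain ⟨Q, hQ, hQ'⟩ := hgood (ρ c v) (hW ▸ AddSubgroup.mem_top _)
  -- an endomorphism commuting with the cyclic group is determined by one value
  have heq : ∀ a b : H, Commute a z → Commute b z → ρ a v = ρ b v → a = b := by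
    intro a b ha hb he
    refine hρ (LinearEquiv.ext fun u => ?_)
    have hu : u ∈ W := hW ▸ AddSubgroup.mem_top u
    induction hu using AddSubgroup.closure_induction with
    | mem w h =>
      obtain ⟨i, rfl⟩ := h
      show ρ a (ρ (z ^ i) v) = ρ b (ρ (z ^ i) v)
      rw [← LinearEquiv.mul_apply, ← LinearEquiv.mul_apply, ← map_mul, ← map_mul,
        (ha.pow_right i).eq, (hb.pow_right i).eq, map_mul, map_mul, LinearEquiv.mul_apply,
        LinearEquiv.mul_apply, he]
    | zero => simp
    | add x y _ _ hx hy => rw [map_add, map_add, hx, hy]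
    | neg x _ hx => rw [map_neg, map_neg, hx]
  refine heq _ _ (hc.mul_left hc') (hc'.mul_left hc) ?_
  have key : ∀ u, P u = ρ c' u := by
    intro u
    have hu : u ∈ W := hW ▸ AddSubgroup.mem_top u
    induction hu using AddSubgroup.closure_induction with
    | mem w h =>
      obtain ⟨i, rfl⟩ := h
      show P (ρ (z ^ i) v) = ρ c' (ρ (z ^ i) v)
      rw [hP' (z ^ i) ((Commute.refl z).pow_left i), hP, ← LinearEquiv.mul_apply,
        ← LinearEquiv.mul_apply, ← map_mul, ← map_mul, (hc'.pow_right i).eq]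
    | zero => rw [map_zero, map_zero]
    | add x y _ _ hx hy => rw [map_add, map_add, hx, hy]
    | neg x _ hx => rw [map_neg, map_neg, hx]
  rw [map_mul, map_mul, LinearEquiv.mul_apply, LinearEquiv.mul_apply, ← key (ρ c v), hP' c hc, hP]

theorem not_dvd_eighty_one (hq3 : q = 3) (hn : Nat.card V = 81) : ¬ q ∣ Nat.card H := by
  intro hdvd
  obtain ⟨x, hx⟩ := exists_prime_orderOf_dvd_card' q hdvd
  have hq2 : q ≠ 2 := by omega
  have hn4 : Nat.card V = q ^ 4 := by rw [hn, hq3]; norm_num
  haveI : Fact (Nat.Prime 5) := ⟨by norm_num⟩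
  haveI : Fact (Nat.Prime 2) := ⟨Nat.prime_two⟩
  haveI := CfsgLib.Fitting.pCore_normal (G := H) 5
  haveI := CfsgLib.Fitting.pCore_normal (G := H) 2
  have hcard : ∀ r : ℕ, r.Prime → r ≠ q → Nat.card (Cfsg.pCore r H) ∣ 80 := fun r hr hrq => by
    haveI := Fact.mk hr
    have := card_pow_dvd hρ htrans hstab hcore 4 hn4 hr hrq _ (CfsgLib.Fitting.pCore_isPGroup r)
    rw [hq3] at this
    exact this
  have hother : ∀ r : ℕ, r.Prime → r ≠ q → r ≠ 2 → r ≠ 5 → Cfsg.pCore r H = ⊥ := by
    intro r hr hrq h2 h5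
    haveI := Fact.mk hr
    obtain ⟨j, hj⟩ := (CfsgLib.Fitting.pCore_isPGroup (G := H) r).exists_card_eq
    refine Subgroup.card_eq_one.mp ?_
    rcases j with _ | j
    · rw [hj, pow_zero]
    exfalso
    have h := (dvd_pow_self r j.succ_ne_zero).trans (hj ▸ hcard r hr hrq)
    have := Nat.le_of_dvd (by norm_num) h
    interval_cases r <;> simp_all (config := { decide := true })
  have huniq := involution_unique hρ htrans hstab hcore hq2
  -- the core at five is centralized
  have h5 : ∀ a ∈ Cfsg.pCore 5 H, x * a = a * x := by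
    set R := Cfsg.pCore 5 H with hR
    obtain ⟨j, hj⟩ := (CfsgLib.Fitting.pCore_isPGroup (G := H) 5).exists_card_eq
    rw [← hR] at hj
    have hj1 : j ≤ 1 := by
      by_contra h
      have h25 : 5 ^ 2 ∣ 80 := (pow_dvd_pow 5 (by omega : 2 ≤ j)).trans (hj ▸ hcard 5 (by norm_num) (by omega))
      norm_num at h25
    obtain ⟨i, hij, hi⟩ := (Nat.dvd_prime_pow (by norm_num : Nat.Prime 5)).mp
      (hj ▸ Subgroup.card_dvd_of_le (inf_le_left : R ⊓ Subgroup.centralizer ({x} : Set H) ≤ R))
    have hmod := modEq_fixed hx R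
    rw [hj, hi, hq3] at hmod
    intro a ha
    have : R ⊓ Subgroup.centralizer ({x} : Set H) = R := by
      refine Subgroup.eq_of_le_of_card_ge inf_le_left ?_
      rw [hj, hi]
      interval_cases j <;> interval_cases i <;> simp_all [Nat.ModEq]
    rw [← this] at ha
    exact (Subgroup.mem_centralizer_singleton_iff.mp ha.2).symm
  by_cases hR5 : Cfsg.pCore 5 H = ⊥
  · have h80 : 5 ∣ Nat.card H := by
      have := card_sub_one_dvd htrans
      rw [hn] at this
      exact (by norm_num : 5 ∣ 81 - 1).trans this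
    obtain ⟨y, hy⟩ := exists_prime_orderOf_dvd_card' 5 h80
    set R := Cfsg.pCore 2 H with hR
    have hRp : IsPGroup 2 R := CfsgLib.Fitting.pCore_isPGroup 2
    obtain ⟨j, hj⟩ := hRp.exists_card_eq
    have hj4 : j ≤ 4 := by
      by_contra h
      have h32 : 2 ^ 5 ∣ 80 := (pow_dvd_pow 2 (by omega : 5 ≤ j)).trans (hj ▸ hcard 2 Nat.prime_two (by omega))
      norm_num at h32
    obtain ⟨i, hij, hi⟩ := (Nat.dvd_prime_pow Nat.prime_two).mp
      (hj ▸ Subgroup.card_dvd_of_le (inf_le_left : R ⊓ Subgroup.centralizer ({y} : Set H) ≤ R))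
    have hmod := modEq_fixed hy R
    rw [hj, hi] at hmod
    have hi1 : j = 0 ∨ 1 ≤ i := by
      rcases j with _ | j
      · exact Or.inl rfl
      right
      obtain ⟨⟨t, htR⟩, ht⟩ := exists_prime_orderOf_dvd_card' (G := R) 2
        (hj ▸ dvd_pow_self 2 j.succ_ne_zero)
      rw [Subgroup.orderOf_mk] at ht
      have ht1 : t ≠ 1 := fun e => by rw [e, orderOf_one] at ht; omega
      have ht2 : t * t = 1 := by rw [← pow_two, ← ht]; exact pow_orderOf_eq_one t
      have htC : t ∈ R ⊓ Subgroup.centralizer ({y} : Set H) :=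
        ⟨htR, Subgroup.mem_centralizer_singleton_iff.mpr
          (involution_central hρ htrans hstab hcore hq2 ht2 ht1 y).symm⟩
      have h2 : 2 ∣ 2 ^ i := hi ▸ ht ▸ Subgroup.orderOf_dvd_natCard _ htC
      rcases i with _ | i
      · simp at h2
      · omega
    have hfix : R ⊓ Subgroup.centralizer ({y} : Set H) = R := by
      refine Subgroup.eq_of_le_of_card_ge inf_le_left ?_
      rw [hj, hi]
      interval_cases j <;> interval_cases i <;> simp_all [Nat.ModEq]
    have hF : Cfsg.fittingSubgroup H ≤ R := by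
      refine CfsgLib.Signalizer.fittingSubgroup_le_of_pCore_le fun r hr => ?_
      by_cases h2 : r = 2
      · subst h2; exact le_rfl
      by_cases h5' : r = 5
      · subst h5'; rw [hR5]; exact bot_le
      by_cases hrq : r = q
      · subst hrq; rw [hcore]; exact bot_le
      rw [hother r hr hrq h2 h5']
      exact bot_le
    have hyF : y ∈ Cfsg.fittingSubgroup H := CfsgLib.PSolvable.centralizer_fittingSubgroup_le
      (Subgroup.mem_centralizer_iff.mpr fun a ha => by
        have := hF ha
        rw [← hfix] at this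
        exact Subgroup.mem_centralizer_singleton_iff.mp this.2)
    have h := Subgroup.orderOf_dvd_natCard R (hF hyF)
    rw [hy, hj] at h
    have := (Nat.prime_dvd_prime_iff_eq (by norm_num) Nat.prime_two).mp
      ((by norm_num : Nat.Prime 5).dvd_of_dvd_pow h)
    omega
  · obtain ⟨z, hzR, hz1⟩ := (Cfsg.pCore 5 H).bot_or_exists_ne_one.resolve_left hR5
    have hz : orderOf z = 5 := by
      have hz' := (Subgroup.orderOf_dvd_natCard _ hzR).trans (hcard 5 (by norm_num) (by omega))
      obtain ⟨k, hk⟩ := (CfsgLib.Fitting.pCore_isPGroup (G := H) 5) ⟨z, hzR⟩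
      obtain ⟨l, -, hl⟩ := (Nat.dvd_prime_pow (by norm_num : Nat.Prime 5)).mp
        (orderOf_dvd_of_pow_eq_one (congrArg Subtype.val hk : z ^ 5 ^ k = 1))
      rw [hl] at hz'
      rcases l with _ | _ | l
      · exact absurd (orderOf_eq_one_iff.mp hl) hz1
      · simpa using hl
      · have h25 : 5 ^ 2 ∣ 80 := (pow_dvd_pow 5 (by omega : 2 ≤ l + 1 + 1)).trans hz'
        norm_num at h25
    have hcomm : ∀ a ∈ Cfsg.pCore 2 H, Commute a z := by
      intro a ha
      refine Subgroup.commute_of_normal_of_disjoint _ _ inferInstance inferInstance ?_ a z ha hzR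
      obtain ⟨i, hi⟩ := (CfsgLib.Fitting.pCore_isPGroup (G := H) 2).exists_card_eq
      obtain ⟨j, hj⟩ := (CfsgLib.Fitting.pCore_isPGroup (G := H) 5).exists_card_eq
      rw [disjoint_iff]
      refine Subgroup.inf_eq_bot_of_coprime ?_
      rw [hi, hj]
      exact (by norm_num : Nat.Coprime 2 5).pow i j
    have h2 := commute_of_abelian_two (Cfsg.pCore 2 H) (CfsgLib.Fitting.pCore_isPGroup 2)
      (fun a ha b hb => commute_of_order_five hρ htrans hstab hcore hq3 hn hz (hcomm a ha) (hcomm b hb))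
      huniq (by rw [hx, hq3] : orderOf x = 3)
    refine false_of_centralizes hρ htrans hstab hcore hx fun r hr hrq a ha => ?_
    by_cases hr2 : r = 2
    · subst hr2; exact h2 a ha
    by_cases hr5 : r = 5
    · subst hr5; exact h5 a ha
    rw [hother r hr hrq hr2 hr5, Subgroup.mem_bot] at ha
    simp [ha]

theorem semilinear_case {F : Type} [Field F] [Fintype F] (e : V ≃+ F)
    (hsemi : ∀ g : H, ∃ (a : F) (σ : F ≃+* F), ∀ v : V, e (ρ g v) = a * σ (e v)) :
    Cfsg.HasNormalPComplement q H ∧ ∀ Q : Sylow q H, IsMulCommutative (Q : Subgroup H) := by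
  classical
  choose a σ hσ using hsemi
  have ha : ∀ g, a g ≠ 0 := fun g h => by
    have h1 := hσ g (e.symm 1)
    rw [h, zero_mul, e.map_eq_zero_iff, (ρ g).map_eq_zero_iff, e.symm.map_eq_zero_iff] at h1
    exact one_ne_zero h1
  have hval : ∀ g x, e (ρ g (e.symm x)) = a g * σ g x := fun g x => by
    rw [hσ g (e.symm x), e.apply_symm_apply]
  let τ : H →* RingAut F := MonoidHom.mk' σ fun g h => by
    have hx : ∀ x, a (g * h) * σ (g * h) x = a g * σ g (a h) * σ g (σ h x) := fun x => by
      rw [← hval, map_mul, LinearEquiv.mul_apply, hσ g, hval h, map_mul, mul_assoc]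
    have h1 := hx 1
    simp only [map_one, mul_one] at h1
    refine RingEquiv.ext fun x => ?_
    have h2 := hx x
    rw [h1] at h2
    exact mul_left_cancel₀ (mul_ne_zero (ha g) ((map_ne_zero (σ g)).mpr (ha h))) h2
  have hτ : ∀ g, τ g = σ g := fun g => rfl
  have hker : ∀ g, τ g = 1 → g ^ (Fintype.card F - 1) = 1 := by
    intro g hg
    have hlin : ∀ (k : ℕ) (v : V), e (ρ (g ^ k) v) = a g ^ k * e v := by
      intro k
      induction k with
      | zero => intro v; simp
      | succ k ih =>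
        intro v
        rw [pow_succ, map_mul, LinearEquiv.mul_apply, ih, hσ g, ← hτ, hg, pow_succ, mul_assoc]
        rfl
    refine hρ (LinearEquiv.ext fun v => e.injective ?_)
    rw [hlin, FiniteField.pow_card_sub_one_eq_one _ (ha g), one_mul, map_one]
    rfl
  have hqF : (Fintype.card F - 1).Coprime q := by
    rw [Nat.coprime_comm, (Fact.out : q.Prime).coprime_iff_not_dvd]
    intro h
    have hV : q ∣ Fintype.card F := by
      rw [← Nat.card_eq_fintype_card, ← Nat.card_congr e.toEquiv]
      obtain ⟨v, hv⟩ := exists_ne (0 : V)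
      have hord : addOrderOf v = q := addOrderOf_eq_prime
        (by rw [← Nat.cast_smul_eq_nsmul (ZMod q), ZMod.natCast_self, zero_smul]) hv
      exact hord ▸ addOrderOf_dvd_natCard v
    have h1 : q ∣ 1 := by
      have := Nat.dvd_sub hV h
      rwa [show Fintype.card F - (Fintype.card F - 1) = 1 by have := Fintype.card_pos (α := F); omega] at this
    exact (Fact.out : q.Prime).not_dvd_one h1
  have hcommR : ∀ s t : RingAut F, s * t = t * s := by
    intro s t
    obtain ⟨γ, hγ⟩ := IsCyclic.exists_generator (α := Fˣ)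
    obtain ⟨i, hi⟩ := Subgroup.mem_zpowers_iff.mp (hγ (Units.map (s : F →* F) γ))
    obtain ⟨j, hj⟩ := Subgroup.mem_zpowers_iff.mp (hγ (Units.map (t : F →* F) γ))
    have hs : s (γ : F) = (γ : F) ^ i := by
      have := congrArg Units.val hi
      rw [Units.val_zpow_eq_zpow_val] at this
      exact this.symm
    have ht : t (γ : F) = (γ : F) ^ j := by
      have := congrArg Units.val hj
      rw [Units.val_zpow_eq_zpow_val] at this
      exact this.symm
    refine RingEquiv.ext fun x => ?_
    show s (t x) = t (s x)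
    rcases eq_or_ne x 0 with rfl | hx
    · simp
    obtain ⟨k, hk⟩ := Subgroup.mem_zpowers_iff.mp (hγ (Units.mk0 x hx))
    have hxv : (γ : F) ^ k = x := by
      have := congrArg Units.val hk
      rwa [Units.val_zpow_eq_zpow_val] at this
    rw [← hxv, map_zpow₀, map_zpow₀, map_zpow₀, map_zpow₀, ht, hs, map_zpow₀, map_zpow₀, hs, ht,
      ← zpow_mul (γ : F) i j, ← zpow_mul (γ : F) j i, mul_comm i j]
  haveI : Finite (RingAut F) :=
    Finite.of_injective (fun s : RingAut F => (s : F → F)) DFunLike.coe_injective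
  let N : Subgroup H :=
    { carrier := {h | (orderOf (τ h)).Coprime q}
      one_mem' := by simp
      mul_mem' := fun {g h} hg hh => by
        show (orderOf (τ (g * h))).Coprime q
        rw [map_mul]
        exact (Nat.Coprime.mul_left hg hh).coprime_dvd_left
          (Commute.orderOf_mul_dvd_mul_orderOf (show Commute (τ g) (τ h) from hcommR _ _))
      inv_mem' := fun {g} hg => by
        show (orderOf (τ g⁻¹)).Coprime q
        rw [map_inv, orderOf_inv]
        exact hg }
  haveI : N.Normal := ⟨fun g hg h => by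
    show (orderOf (τ (h * g * h⁻¹))).Coprime q
    rw [map_mul, map_mul, map_inv, hcommR (τ h), mul_inv_cancel_right]
    exact hg⟩
  have hNc : (Nat.card N).Coprime q := by
    rw [Nat.coprime_comm, (Fact.out : q.Prime).coprime_iff_not_dvd]
    intro h
    obtain ⟨g, hg⟩ := exists_prime_orderOf_dvd_card' (G := N) q h
    have hgN : (orderOf (τ (g : H))).Coprime q := g.2
    have hgo : orderOf (g : H) = q := by rw [Subgroup.orderOf_coe]; exact hg
    have h1 : orderOf (τ (g : H)) = 1 :=
      hgN.eq_one_of_dvd (hgo ▸ orderOf_map_dvd τ (g : H))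
    have h2 := orderOf_dvd_of_pow_eq_one (hker (g : H) (orderOf_eq_one_iff.mp h1))
    rw [hgo] at h2
    exact (Fact.out : q.Prime).coprime_iff_not_dvd.mp hqF.symm h2
  refine ⟨CfsgLib.Transfer.hasNormalPComplement_of_le_of_isPGroup_quotient N hNc fun g => ?_,
    fun Q => ⟨⟨fun x y => Subtype.ext ?_⟩⟩⟩
  · obtain ⟨g, rfl⟩ := QuotientGroup.mk_surjective g
    set k := (orderOf (τ g)).factorization q
    refine ⟨k, (QuotientGroup.eq_one_iff _).mpr ?_⟩
    show (orderOf (τ (g ^ q ^ k))).Coprime q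
    rw [map_pow, orderOf_pow_of_dvd (pow_ne_zero _ (Fact.out : q.Prime).ne_zero) (Nat.ordProj_dvd _ _)]
    exact (Nat.coprime_ordCompl (Fact.out) (orderOf_pos _).ne').symm
  · refine commutatorElement_eq_one_iff_mul_comm.mp ?_
    have hmem : ⁅(x : H), (y : H)⁆ ∈ (Q : Subgroup H) := (⁅x, y⁆ : (Q : Subgroup H)).2
    have h1 : τ ⁅(x : H), (y : H)⁆ = 1 := by
      rw [map_commutatorElement, commutatorElement_eq_one_iff_mul_comm]
      exact hcommR _ _
    have h2 := orderOf_dvd_of_pow_eq_one (hker _ h1)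
    obtain ⟨k, hk⟩ := Q.2 ⟨_, hmem⟩
    exact orderOf_eq_one_iff.mp ((hqF.pow_right k).coprime_dvd_left h2 |>.eq_one_of_dvd
      (orderOf_dvd_of_pow_eq_one (congrArg Subtype.val hk)))

/-- Solvable transitive linear groups with stabilizers in the defining characteristic. -/
theorem main : Cfsg.HasNormalPComplement q H ∧
    ∀ Q : Sylow q H, IsMulCommutative (Q : Subgroup H) := by
  classical
  have hqp : q.Prime := Fact.out
  have hno : ¬ q ∣ Nat.card H → Cfsg.HasNormalPComplement q H ∧
      ∀ Q : Sylow q H, IsMulCommutative (Q : Subgroup H) := by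
    intro h
    refine ⟨CfsgLib.Transfer.hasNormalPComplement_of_le_of_isPGroup_quotient (⊤ : Subgroup H)
      (by rw [Subgroup.card_top]; exact (hqp.coprime_iff_not_dvd.mpr h).symm)
      (IsPGroup.of_card (n := 0) (by rw [← Subgroup.index, Subgroup.index_top, pow_zero])),
      fun Q => ?_⟩
    obtain ⟨k, hk⟩ := Q.2.exists_card_eq
    rcases k with _ | k
    · exact ⟨⟨fun a b => by
        haveI := (Nat.card_eq_one_iff_unique.mp (hk.trans (pow_zero q))).1
        exact Subsingleton.elim _ _⟩⟩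
    · exact absurd ((dvd_pow_self q k.succ_ne_zero).trans (hk ▸ Subgroup.card_subgroup_dvd_card _)) h
  rcases transitive_main hρ htrans with ⟨F, _, _, e, hsemi⟩ | hsmall
  · exact semilinear_case hρ htrans hstab hcore e hsemi
  have hqV : q ∣ Nat.card V := by
    obtain ⟨v, hv⟩ := exists_ne (0 : V)
    have hord : addOrderOf v = q := addOrderOf_eq_prime
      (by rw [← Nat.cast_smul_eq_nsmul (ZMod q), ZMod.natCast_self, zero_smul]) hv
    exact hord ▸ addOrderOf_dvd_natCard v
  obtain ⟨hq2, hn⟩ : q ≠ 2 ∧ ((q = 3 ∧ Nat.card V = 81) ∨ Nat.card V = q ^ 2) := by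
    simp only [Set.mem_insert_iff, Set.mem_singleton_iff] at hsmall
    have hpow : ∀ (c r k : ℕ), r.Prime → c = r ^ k → q ∣ c → q = r := by
      intro c r k hr hc h
      rw [hc] at h
      exact (Nat.prime_dvd_prime_iff_eq hqp hr).mp (hqp.dvd_of_dvd_pow h)
    rcases hsmall with h | h | h | h | h | h <;> rw [h] at hqV ⊢
    · have := hpow 9 3 2 (by norm_num) (by norm_num) hqV; subst this; norm_num
    · have := hpow 25 5 2 (by norm_num) (by norm_num) hqV; subst this; norm_num
    · have := hpow 49 7 2 (by norm_num) (by norm_num) hqV; subst this; norm_num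
    · have := hpow 121 11 2 (by norm_num) (by norm_num) hqV; subst this; norm_num
    · have := hpow 529 23 2 (by norm_num) (by norm_num) hqV; subst this; norm_num
    · have := hpow 81 3 4 (by norm_num) (by norm_num) hqV; subst this; norm_num
  rcases hn with ⟨hq3, h81⟩ | hn
  · exact hno (not_dvd_eighty_one hρ htrans hstab hcore hq3 h81)
  by_cases hdvd : q ∣ Nat.card H
  swap
  · exact hno hdvd
  obtain ⟨x, hx⟩ := exists_prime_orderOf_dvd_card' q hdvd
  obtain ⟨hq3, hR⟩ := core_two_dim hρ htrans hstab hcore hn hq2 hx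
  obtain ⟨v, S, hv, hSmem, hSp, hidx⟩ := exists_stab hρ htrans hstab hcore
  haveI := CfsgLib.Fitting.pCore_normal (G := H) 2
  set R := Cfsg.pCore 2 H
  have hidx8 : S.index = 8 := by rw [hidx, hn, hq3]; norm_num
  obtain ⟨s, hs⟩ := hSp.exists_card_eq
  have hH : Nat.card H = q ^ s * 8 := by rw [← S.card_mul_index, hs, hidx8]
  have hRidx : R.index = q ^ s := by
    have := R.card_mul_index
    rw [hR, hH] at this
    omega
  refine ⟨CfsgLib.Transfer.hasNormalPComplement_of_le_of_isPGroup_quotient R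
    (by rw [hR, hq3]; decide) (IsPGroup.of_card (n := s) hRidx), fun Q => ?_⟩
  -- the stabilizer has order at most three
  have hcl : Nat.card (AddSubgroup.closure ({v} : Set V)) = 3 := by
    rw [← AddSubgroup.zmultiples_eq_closure, Nat.card_zmultiples, ← hq3]
    exact addOrderOf_eq_prime
      (by rw [← Nat.cast_smul_eq_nsmul (ZMod q), ZMod.natCast_self, zero_smul]) hv
  obtain ⟨w, hw⟩ : ∃ w, w ∉ AddSubgroup.closure ({v} : Set V) := by
    by_contra h
    push_neg at h
    have := AddSubgroup.card_top (G := V)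
    rw [← (AddSubgroup.eq_top_iff' _).mpr h, hcl, hn, hq3] at this
    norm_num at this
  have hinj : ∀ g ∈ S, ρ g w = w → g = 1 := by
    intro g hg hgw
    refine hρ (LinearEquiv.ext fun u => ?_)
    let Fx : AddSubgroup V :=
      { carrier := {u | ρ g u = u}
        zero_mem' := map_zero _
        add_mem' := fun {a b} ha hb => by
          show ρ g (a + b) = a + b
          rw [map_add, ha, hb]
        neg_mem' := fun {a} ha => by
          show ρ g (-a) = -a
          rw [map_neg, ha] }
    have hvF : AddSubgroup.closure ({v} : Set V) ≤ Fx :=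
      (AddSubgroup.closure_le _).mpr (Set.singleton_subset_iff.mpr ((hSmem g).mp hg))
    have hdvd : Nat.card Fx ∣ 3 ^ 2 := by
      rw [show (3 : ℕ) ^ 2 = Nat.card V by rw [hn, hq3]]
      exact AddSubgroup.card_addSubgroup_dvd_card _
    have h3 : 3 < Nat.card Fx := by
      rw [← hcl]
      refine lt_of_le_of_ne (Nat.le_of_dvd Nat.card_pos (AddSubgroup.card_dvd_of_le hvF)) fun e => ?_
      have := AddSubgroup.eq_of_le_of_card_ge hvF e.ge
      exact hw (this ▸ (show w ∈ Fx from hgw))
    obtain ⟨k, hk, hk'⟩ := (Nat.dvd_prime_pow Nat.prime_three).mp hdvd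
    have : k = 2 := by interval_cases k <;> simp_all
    rw [map_one]
    exact show u ∈ Fx from (AddSubgroup.eq_top_of_card_eq Fx (by rw [hk', this, hn, hq3])) ▸
      AddSubgroup.mem_top u
  have hS3 : Nat.card S ≤ 8 := by
    have : Nat.card {u : V // u ≠ 0} = 8 := by
      haveI := Fintype.ofFinite V
      rw [Nat.card_eq_fintype_card, Fintype.card_subtype_compl, Fintype.card_subtype_eq,
        ← Nat.card_eq_fintype_card, hn, hq3]
      norm_num
    rw [← this]
    have hw0 : w ≠ 0 := fun e => hw (e ▸ AddSubgroup.zero_mem _)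
    refine Nat.card_le_card_of_injective
      (fun g : S => (⟨ρ (g : H) w, (ρ (g : H)).map_ne_zero_iff.mpr hw0⟩ : {u : V // u ≠ 0})) ?_
    intro a b e
    have e' : ρ (a : H) w = ρ (b : H) w := congrArg Subtype.val e
    refine Subtype.ext (inv_mul_eq_one.mp (hinj _ (S.mul_mem (S.inv_mem a.2) b.2) ?_))
    rw [map_mul, LinearEquiv.mul_apply, ← e', inv_apply_apply]
  have hs1 : s ≤ 1 := by
    by_contra h
    have : 3 ^ 2 ≤ q ^ s := by rw [hq3]; exact Nat.pow_le_pow_right (by norm_num) (by omega)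
    omega
  obtain ⟨k, hk⟩ := Q.2.exists_card_eq
  have hks : k ≤ 1 := by
    by_contra h
    have h9 : 3 ^ 2 ∣ Nat.card H := by
      have := (pow_dvd_pow q (by omega : 2 ≤ k)).trans (hk ▸ Subgroup.card_subgroup_dvd_card (Q : Subgroup H))
      rwa [hq3] at this
    rw [hH, hq3] at h9
    interval_cases s <;> norm_num at h9
  rcases (by omega : k = 0 ∨ k = 1) with h | h <;> rw [h] at hk
  · exact ⟨⟨fun a b => by
      haveI := (Nat.card_eq_one_iff_unique.mp (hk.trans (pow_zero q))).1
      exact Subsingleton.elim _ _⟩⟩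
  · haveI : IsCyclic (Q : Subgroup H) := isCyclic_of_prime_card (hk.trans (pow_one q))
    exact ⟨⟨(IsCyclic.commGroup (α := (Q : Subgroup H))).mul_comm⟩⟩

end Setting

end CfsgLib.TransLinear.PStab
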